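import Cfsg.Agent.Lib.BrauerCharacters.PrincipalPElements
import Cfsg.Agent.Lib.BrauerCharacters.ClassMul
import Cfsg.Agent.Lib.Correspondences.CharKer

/-!
# Special sets of two-elements and involutions in the principal block
-/

set_option autoImplicit false

namespace CfsgLib.BrauerCharacters

open Cfsg CfsgLib.CharTheory CfsgLib.Blocks Finset
open scoped ComplexConjugate

variable {G : Type*} [Group G] [Fintype G]

theorem conj_apply_involution (χ : IrrCharacter G) {t : G} (ht : t * t = 1) :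
    conj ((χ : G → ℂ) t) = (χ : G → ℂ) t := by
  rw [conj_apply, inv_eq_of_mul_eq_one_right ht]

/-- If no conjugate of the involution `t` inverts `z`, the structure constant vanishes. -/
theorem sum_irr_mul_sq_eq_zero [Fintype (IrrCharacter G)] {t z : G} (ht : t * t = 1)
    (h : ∀ g : G, g * t * g⁻¹ * z * (g * t * g⁻¹)⁻¹ ≠ z⁻¹) :
    ∑ χ : IrrCharacter G, (χ : G → ℂ) t ^ 2 / (χ : G → ℂ) 1 * (χ : G → ℂ) z = 0 := by
  classical
  have hk := sum_weight_pairs t t (fun u : G => if u = z then (1 : ℂ) else 0)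
  have hempty : ∀ x ∈ (univ : Finset G), ¬ (IsConj t x ∧ IsConj t (x * z)) := by
    rintro x - ⟨h1, h2⟩
    obtain ⟨g, rfl⟩ := isConj_iff.1 h1
    obtain ⟨c, hc⟩ := isConj_iff.1 h2
    have hsq : g * t * g⁻¹ * (g * t * g⁻¹) = 1 := by
      rw [show g * t * g⁻¹ * (g * t * g⁻¹) = g * (t * t) * g⁻¹ by group, ht]; group
    have hxz : g * t * g⁻¹ * z * (g * t * g⁻¹ * z) = 1 := by
      rw [← hc, show c * t * c⁻¹ * (c * t * c⁻¹) = c * (t * t) * c⁻¹ by group, ht]; group
    refine h g ?_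
    rw [inv_eq_of_mul_eq_one_right hsq, eq_inv_iff_mul_eq_one, mul_assoc _ _ z]
    simpa [mul_assoc] using hxz
  rw [sum_eq_single z (fun u _ hu => by rw [if_neg hu, zero_mul]) (by simp)] at hk
  rw [if_pos rfl, one_mul] at hk
  obtain ⟨n, hn, hk⟩ : ∃ n : ℕ, n = 0 ∧ (n : ℂ) =
      ((Subgroup.centralizer ({t} : Set G)).index : ℂ) / (Nat.card G : ℂ) *
        ∑ χ : IrrCharacter G, centralChar (χ : G → ℂ) t * conj ((χ : G → ℂ) t) *
          ∑ u : G, (if u = z then (1 : ℂ) else 0) * (χ : G → ℂ) u := by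
    refine ⟨_, ?_, hk⟩
    refine card_eq_zero.2 (Finset.ext fun x => ?_)
    simp only [mem_filter, notMem_empty, iff_false]
    exact fun hx => hempty x hx.1 hx.2
  rw [hn, Nat.cast_zero] at hk
  simp only [ite_mul, one_mul, zero_mul, sum_ite_eq', mem_univ, if_true] at hk
  have hI : ((Subgroup.centralizer ({t} : Set G)).index : ℂ) ≠ 0 :=
    Nat.cast_ne_zero.2 Subgroup.index_ne_zero_of_finite
  have hN : (Nat.card G : ℂ) ≠ 0 := Nat.cast_ne_zero.2 Nat.card_pos.ne'
  have h2 := (mul_eq_zero.1 hk.symm).resolve_left (div_ne_zero hI hN)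
  refine mul_left_cancel₀ hI ?_
  rw [mul_zero, ← h2, mul_sum]
  refine sum_congr rfl fun χ _ => ?_
  rw [centralChar_apply, conj_apply_involution χ ht]
  ring

variable {M : Ideal AlgInt} [M.IsPrime]

theorem sum_principal_mul_sq_eq_zero [Fact (Nat.Prime 2)] (hM : IsPModular 2 M) {t y : G}
    [Fintype (Subgroup.centralizer ({y} : Set G))] (hy : ∃ k : ℕ, orderOf y = 2 ^ k)
    (ht : t * t = 1) (h : ∀ g : G, g * t * g⁻¹ * y * (g * t * g⁻¹)⁻¹ ≠ y⁻¹) :
    ∑ χ ∈ blockFinset (principalBlock M G),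
      (χ : G → ℂ) y * (χ : G → ℂ) t ^ 2 / (χ : G → ℂ) 1 = 0 := by
  classical
  haveI := Fintype.ofFinite (IrrCharacter G)
  set C := Subgroup.centralizer ({y} : Set G)
  set b0 := principalBlock M C
  have h1 : ¬ 2 ∣ orderOf (1 : C) := by rw [orderOf_one]; norm_num
  have hval : ∀ χ : IrrCharacter G, χ ∈ principalBlock M G →
      (χ : G → ℂ) y = secPart y b0 χ 1 := fun χ hχ => by
    rw [← apply_eq_secPart_principal y hy hM hχ h1, mul_one]; rfl
  rw [sum_congr rfl (g := fun χ : IrrCharacter G =>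
      secPart y b0 χ 1 * (χ : G → ℂ) t ^ 2 / (χ : G → ℂ) 1)
    (fun χ hχ => by rw [hval χ (mem_blockFinset.1 hχ)]),
    sum_subset (subset_univ _) (fun χ _ hχ => by
      rw [secPart_principal_of_notMem y hy hM (by simpa using hχ) h1, zero_mul, zero_div])]
  simp only [secPart, coe_resMult]
  simp only [sum_classInner_mul_eq, mul_sum, sum_mul, sum_div]
  rw [sum_comm]
  refine sum_eq_zero fun w _ => ?_
  by_cases hw : secKernel y b0 1 w = 0
  · simp [hw]
  have hpart := isPPart_of_secKernel_ne_zero y b0 hy hM (finite_isPBlock_principalBlock M) h1 hw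
  obtain ⟨u, hu, hc, hk, hu'⟩ := hpart
  have hwy : IsPPart 2 (w : G) y := ⟨(u : G), congrArg Subtype.val hu, congrArg Subtype.val hc.eq,
    hy, by rwa [← Subgroup.orderOf_coe] at hu'⟩
  have hne : ∀ g : G, g * t * g⁻¹ * (w : G) * (g * t * g⁻¹)⁻¹ ≠ (w : G)⁻¹ := fun g hg => by
    have h2 := CfsgLib.Blocks.IsPPart.conj hwy (g * t * g⁻¹)
    rw [hg] at h2
    exact h g (CfsgLib.Blocks.IsPPart.unique h2 (CfsgLib.Blocks.IsPPart.inv hwy))
  calc _ = (Nat.card C : ℂ)⁻¹ * secKernel y b0 1 w * ∑ χ : IrrCharacter G,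
        (χ : G → ℂ) t ^ 2 / (χ : G → ℂ) 1 * (χ : G → ℂ) (w : G) := by
        rw [mul_sum]; exact sum_congr rfl fun χ _ => by ring
    _ = 0 := by rw [sum_irr_mul_sq_eq_zero ht hne, mul_zero]

/-- The equality case of the Cauchy inequality: with three vanishing sums and only one positive
coefficient the ratio `T / f` is constant where the coefficient is non-zero. -/
theorem eq_of_single_pos {ι : Type*} (B : Finset ι) (A f T : ι → ℝ) (hf : ∀ i ∈ B, 0 < f i)
    (h1 : ∑ i ∈ B, A i * f i = 0) (h2 : ∑ i ∈ B, A i * T i = 0)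
    (h3 : ∑ i ∈ B, A i * T i ^ 2 / f i = 0) {i₀ : ι} (hi₀ : i₀ ∈ B) (hne : A i₀ ≠ 0)
    (hT : T i₀ = f i₀) (hone : ∀ i ∈ B, ∀ j ∈ B, 0 < A i → 0 < A j → i = j) :
    (∀ i ∈ B, A i ≠ 0 → T i = f i) ∧ ∃ i ∈ B, i ≠ i₀ ∧ A i ≠ 0 := by
  have hex : ∃ j ∈ B, 0 < A j := by
    by_contra hcon
    push Not at hcon
    have := (sum_eq_zero_iff_of_nonpos fun i hi =>
      mul_nonpos_of_nonpos_of_nonneg (hcon i hi) (hf i hi).le).1 h1 i₀ hi₀
    exact hne ((mul_eq_zero.1 this).resolve_right (hf i₀ hi₀).ne')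
  obtain ⟨j, hj, hjpos⟩ := hex
  set r := T j / f j
  have key : ∑ i ∈ B, A i * (T i - r * f i) ^ 2 / f i = 0 := by
    rw [sum_congr rfl (g := fun i => A i * T i ^ 2 / f i - 2 * r * (A i * T i) +
      r ^ 2 * (A i * f i)) (fun i hi => by
      have := (hf i hi).ne'
      field_simp
      ring), sum_add_distrib, sum_sub_distrib, ← mul_sum, ← mul_sum, h1, h2, h3]
    ring
  have hall : ∀ i ∈ B, A i * (T i - r * f i) ^ 2 / f i = 0 := by
    refine (sum_eq_zero_iff_of_nonpos fun i hi => ?_).1 key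
    by_cases hij : i = j
    · subst hij
      simp only [r]
      rw [div_mul_cancel₀ _ (hf i hi).ne']
      simp
    · have : A i ≤ 0 := not_lt.1 fun hpos => hij (hone i hi j hj hpos hjpos)
      exact div_nonpos_of_nonpos_of_nonneg
        (mul_nonpos_of_nonpos_of_nonneg this (sq_nonneg _)) (hf i hi).le
  have hlin : ∀ i ∈ B, A i ≠ 0 → T i = r * f i := fun i hi hA => by
    have h := hall i hi
    rcases div_eq_zero_iff.1 h with h | h
    · exact sub_eq_zero.1 (sq_eq_zero_iff.1 ((mul_eq_zero.1 h).resolve_left hA))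
    · exact absurd h (hf i hi).ne'
  have hr : r = 1 := by
    have := hlin i₀ hi₀ hne
    rw [hT] at this
    exact ((mul_eq_right₀ (hf i₀ hi₀).ne').1 this.symm)
  refine ⟨fun i hi hA => by rw [hlin i hi hA, hr, one_mul], ?_⟩
  by_contra hcon
  push Not at hcon
  rw [sum_eq_single i₀ (fun i hi hii => by rw [hcon i hi hii, zero_mul])
    (fun h => absurd hi₀ h)] at h1
  exact hne ((mul_eq_zero.1 h1).resolve_right (hf i₀ hi₀).ne')

end CfsgLib.BrauerCharacters
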