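import Cfsg.Agent.Lib.BrauerCharacters.SymmetricTwo
import Cfsg.Agent.Lib.BrauerCharacters.PrincipalSection
import Cfsg.Agent.Lib.BrauerPairs.Bridge
import Mathlib.RingTheory.LocalRing.Module

/-!
# Dimensions attached to the block algebra over the residue field

For a block `B` the algebra cut out of the group algebra over the residue field has dimension
`∑ χ(1) ^ 2` and `|B|` independent trace functions.
-/

set_option autoImplicit false
set_option linter.unusedSectionVars false

namespace CfsgLib.BrauerCharacters

open Cfsg CfsgLib.CharTheory CfsgLib.Blocks MonoidAlgebra Module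
open scoped Matrix

/-- An idempotent matrix over a local ring has the same rank over every field receiving it, and
that rank is its trace. -/
theorem exists_rank_of_idempotent {R : Type*} [CommRing R] [IsLocalRing R] {n : Type*} [Fintype n]
    [DecidableEq n] {P : Matrix n n R} (hP : P * P = P) :
    ∃ r : ℕ, ∀ (S : Type) [Field S] (f : R →+* S),
      finrank S (LinearMap.range (P.map f).mulVecLin) = r ∧ (P.map f).trace = (r : S) := by
  classical
  set V := LinearMap.range P.mulVecLin with hV
  set π : (n → R) →ₗ[R] V := LinearMap.rangeRestrict P.mulVecLin with hπ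
  have hπV : π.comp V.subtype = LinearMap.id := by
    ext ⟨v, w, rfl⟩
    simp [π, Matrix.mulVec_mulVec, hP]
  haveI : Module.Projective R V := Module.Projective.of_split V.subtype π hπV
  haveI : Module.Finite R V := Module.Finite.range _
  haveI : Module.Free R V := Module.free_of_flat_of_isLocalRing
  let b := Module.finBasis R V
  refine ⟨finrank R V, fun S _ f => ?_⟩
  set A := LinearMap.toMatrix' (V.subtype.comp b.equivFun.symm.toLinearMap) with hA
  set C := LinearMap.toMatrix' (b.equivFun.toLinearMap.comp π) with hC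
  have hCA : C * A = 1 := by
    rw [hA, hC, ← LinearMap.toMatrix'_comp]
    convert LinearMap.toMatrix'_id using 2
    refine LinearMap.ext fun v => ?_
    have h := LinearMap.congr_fun hπV (b.equivFun.symm v)
    simp only [LinearMap.comp_apply, LinearMap.id_apply] at h
    simp only [LinearMap.comp_apply, LinearEquiv.coe_coe, h, LinearEquiv.apply_symm_apply,
      LinearMap.id_apply]
  have hAC : A * C = P := by
    rw [hA, hC, ← LinearMap.toMatrix'_comp]
    convert LinearMap.toMatrix'_toLin' P using 2
    refine LinearMap.ext fun v => ?_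
    simp [π]
  have hCA' : C.map f * A.map f = 1 := by rw [← Matrix.map_mul, hCA, Matrix.map_one] <;> simp
  have hAC' : A.map f * C.map f = P.map f := by rw [← Matrix.map_mul, hAC]
  constructor
  · have hinj : Function.Injective (A.map f).mulVecLin := fun v w h => by
      have := congrArg ((C.map f).mulVecLin) h
      simpa [Matrix.mulVec_mulVec, hCA'] using this
    have hrange : LinearMap.range (P.map f).mulVecLin = LinearMap.range (A.map f).mulVecLin := by
      refine le_antisymm ?_ ?_
      · rw [← hAC', Matrix.mulVecLin_mul]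
        exact LinearMap.range_comp_le_range _ _
      · rintro _ ⟨v, rfl⟩
        refine ⟨(A.map f) *ᵥ v, ?_⟩
        simp only [Matrix.mulVecLin_apply, Matrix.mulVec_mulVec, ← hAC', Matrix.mul_assoc, hCA',
          Matrix.mul_one]
    rw [hrange, LinearMap.finrank_range_of_inj hinj, Module.finrank_fin_fun]
  · rw [← hAC', Matrix.trace_mul_comm, hCA', Matrix.trace_one, Fintype.card_fin]

variable {G : Type*} [Group G] [Fintype G] {S : Type*} [CommRing S] {T : Type*} [CommRing T]

/-- Right multiplication on the group ring, as a matrix. -/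
noncomputable def regMat (e : MonoidAlgebra S G) : Matrix G G S :=
  Matrix.of fun g h => e.coeff (h⁻¹ * g)

open scoped Classical in
/-- The action on functions of conjugacy classes, as a matrix. -/
noncomputable def clsMat (e : MonoidAlgebra S G) : Matrix (ConjClasses G) (ConjClasses G) S :=
  Matrix.of fun c d => ∑ h : G, if ConjClasses.mk (c.out * h) = d then e.coeff h else 0

theorem regMat_map (f : S →+* T) (e : MonoidAlgebra S G) :
    (regMat e).map f = regMat (mapRingHom G f e) := by
  ext g h
  simp [regMat]

theorem clsMat_map (f : S →+* T) (e : MonoidAlgebra S G) :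
    (clsMat e).map f = clsMat (mapRingHom G f e) := by
  classical
  ext c d
  simp [clsMat, map_sum, apply_ite f]

theorem regMat_mulVec (e : MonoidAlgebra S G) (v : G → S) (g : G) :
    (regMat e *ᵥ v) g = (ofFun v * e).coeff g := by
  rw [coeff_mul_eq_sum]
  exact Finset.sum_congr rfl fun h _ => by simp [regMat, mul_comm]

theorem clsMat_mulVec [Fintype (ConjClasses G)] {e : MonoidAlgebra S G} (he : IsClassElem e)
    (φ : ConjClasses G → S) (g : G) :
    (clsMat e *ᵥ φ) (ConjClasses.mk g) = ∑ h : G, e.coeff h * φ (ConjClasses.mk (g * h)) := by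
  classical
  obtain ⟨a, ha⟩ := isConj_iff.1 (ConjClasses.mk_eq_mk_iff_isConj.1
    (Quotient.out_eq (ConjClasses.mk g)) : IsConj (ConjClasses.mk g).out g)
  simp only [Matrix.mulVec, dotProduct, clsMat, Matrix.of_apply, Finset.sum_mul, ite_mul,
    zero_mul]
  rw [Finset.sum_comm]
  simp only [Finset.sum_ite_eq, Finset.mem_univ, if_true]
  refine Fintype.sum_equiv (MulAut.conj a).toEquiv _ _ fun h => ?_
  simp only [MulEquiv.toEquiv_eq_coe, MulEquiv.coe_toEquiv, MulAut.conj_apply]
  rw [he a h]
  congr 1
  refine congrArg φ (ConjClasses.mk_eq_mk_iff_isConj.2 (isConj_iff.2 ⟨a, ?_⟩))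
  have key : g * (a * h * a⁻¹) = a * (ConjClasses.mk g).out * a⁻¹ * (a * h * a⁻¹) := by rw [ha]
  rw [key]
  group

theorem regMat_mul_self [DecidableEq G] {e : MonoidAlgebra S G} (he : e * e = e) :
    regMat e * regMat e = regMat e := by
  apply Matrix.toLin'.injective
  refine LinearMap.ext fun v => funext fun g => ?_
  simp only [Matrix.toLin'_apply, ← Matrix.mulVec_mulVec, regMat_mulVec]
  rw [show ofFun (regMat e *ᵥ v) = ofFun v * e from
    MonoidAlgebra.ext (Finsupp.ext fun x => regMat_mulVec e v x), mul_assoc, he]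

theorem clsMat_mul_self [Fintype (ConjClasses G)] [DecidableEq (ConjClasses G)]
    {e : MonoidAlgebra S G} (he : IsClassElem e) (hee : e * e = e) :
    clsMat e * clsMat e = clsMat e := by
  apply Matrix.toLin'.injective
  refine LinearMap.ext fun φ => funext fun c => ?_
  induction c using Quotient.inductionOn with
  | h g =>
    show _ = _
    simp only [Matrix.toLin'_apply, ← Matrix.mulVec_mulVec]
    change (clsMat e *ᵥ (clsMat e *ᵥ φ)) (ConjClasses.mk g) = (clsMat e *ᵥ φ) (ConjClasses.mk g)
    simp only [clsMat_mulVec he, Finset.mul_sum]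
    have h1 : ∀ h : G, ∑ l : G, e.coeff h * (e.coeff l * φ (ConjClasses.mk (g * h * l))) =
        ∑ x : G, e.coeff h * e.coeff (h⁻¹ * x) * φ (ConjClasses.mk (g * x)) := fun h =>
      Fintype.sum_equiv (Equiv.mulLeft h) _ _ fun l => by
        simp [mul_assoc]
    simp only [h1]
    rw [Finset.sum_comm]
    refine Finset.sum_congr rfl fun x _ => ?_
    rw [← Finset.sum_mul, ← coeff_mul_eq_sum, hee]

theorem trace_regMat (e : MonoidAlgebra S G) :
    (regMat e).trace = (Fintype.card G : S) * e.coeff 1 := by
  simp [regMat, Matrix.trace, nsmul_eq_mul]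

variable {p : ℕ} {M : Ideal AlgInt} [M.IsPrime] {B : Set (IrrCharacter G)}

theorem trace_regMat_blockIdem :
    (regMat (blockIdem B)).trace = ∑ᶠ χ ∈ B, ((charDegree (χ : G → ℂ) : ℂ)) ^ 2 := by
  classical
  haveI := Fintype.ofFinite (IrrCharacter G)
  rw [trace_regMat, ← Nat.card_eq_fintype_card, ← sum_sq_mul_omega, finsum_mem_eq_sum_blockFinset]
  simp only [omega_blockIdem B, mul_ite, mul_one, mul_zero, ← Finset.sum_filter]
  refine Finset.sum_congr (by ext; simp) fun χ _ => ?_
  rw [(charDegree_spec χ).1]

theorem trace_clsMat_blockIdem [Fintype (ConjClasses G)] :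
    (clsMat (blockIdem B)).trace = (Nat.card B : ℂ) := by
  classical
  haveI := Fintype.ofFinite (IrrCharacter G)
  let X : Matrix (ConjClasses G) (IrrCharacter G) ℂ := Matrix.of fun c χ => (χ : G → ℂ) c.out
  have happ : ∀ (χ : IrrCharacter G) (g : G),
      (χ : G → ℂ) (ConjClasses.mk g).out = (χ : G → ℂ) g := fun χ g =>
    irr_apply_eq_of_isConj (ConjClasses.mk_eq_mk_iff_isConj.1 (Quotient.out_eq _)) χ
  have hXinj : Function.Injective X.mulVecLin := by
    rw [← LinearMap.ker_eq_bot, Submodule.eq_bot_iff]
    intro a ha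
    refine funext ((Fintype.linearIndependent_iff.1 linearIndependent_irr) a (funext fun g => ?_))
    have := congrFun (LinearMap.mem_ker.1 ha) (ConjClasses.mk g)
    simpa [X, Matrix.mulVec, dotProduct, happ, mul_comm] using this
  have hcard : finrank ℂ (IrrCharacter G → ℂ) = finrank ℂ (ConjClasses G → ℂ) := by
    rw [finrank_fintype_fun_eq_card, finrank_fintype_fun_eq_card, ← Nat.card_eq_fintype_card,
      ← Nat.card_eq_fintype_card, card_irrCharacter]
  let L := LinearEquiv.ofBijective X.mulVecLin
    ⟨hXinj, (LinearMap.injective_iff_surjective_of_finrank_eq_finrank hcard).1 hXinj⟩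
  let D : Matrix (IrrCharacter G) (IrrCharacter G) ℂ :=
    Matrix.diagonal fun χ => if χ ∈ B then 1 else 0
  have hPX : clsMat (blockIdem B) * X = X * D := by
    ext c χ
    induction c using Quotient.inductionOn with
    | h g =>
      have h1 := clsMat_mulVec (isClassElem_blockIdem B) (fun d => X d χ) g
      have h2 : ∀ h : G, (χ : G → ℂ) (g * h) = (χ : G → ℂ) (h * g) := fun h => by
        conv_lhs => rw [show g * h = g * (h * g) * g⁻¹ by group]
        exact IsIrrCharacter.isClassFunction χ.2 _ _
      show (clsMat (blockIdem B) * X) (ConjClasses.mk g) χ = (X * D) (ConjClasses.mk g) χ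
      rw [Matrix.mul_diagonal, show (clsMat (blockIdem B) * X) (ConjClasses.mk g) χ =
        (clsMat (blockIdem B) *ᵥ fun d => X d χ) (ConjClasses.mk g) from rfl, h1]
      simp only [X, Matrix.of_apply, happ, coeff_blockIdem, h2]
      rw [sum_blockCoeff_mul_apply B χ g]
      simp
  have hconj : L.conj D.mulVecLin = (clsMat (blockIdem B)).mulVecLin := by
    refine LinearMap.ext fun v => ?_
    rw [LinearEquiv.conj_apply]
    simp only [LinearMap.comp_apply, LinearEquiv.coe_coe]
    show X *ᵥ (D *ᵥ (L.symm v)) = clsMat (blockIdem B) *ᵥ v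
    rw [Matrix.mulVec_mulVec, ← hPX, ← Matrix.mulVec_mulVec]
    exact congrArg (fun w => clsMat (blockIdem B) *ᵥ w) (L.apply_symm_apply v)
  have h := LinearMap.trace_conj' D.mulVecLin L
  rw [hconj] at h
  erw [Matrix.trace_toLin'_eq, Matrix.trace_toLin'_eq] at h
  rw [h]
  simp only [D, Matrix.trace_diagonal, Finset.sum_boole]
  rw [Nat.card_eq_fintype_card, Fintype.card_subtype]

/-- The block algebra of a block with two characters has dimension twice a square. -/
theorem exists_sum_degree_sq_eq_two_mul_sq (hM : IsPModular p M) (hB : IsPBlock M B)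
    (hk : Nat.card B = 2) :
    ∃ n : ℕ, ∑ᶠ χ ∈ B, ((charDegree (χ : G → ℂ) : ℂ)) ^ 2 = 2 * (n : ℂ) ^ 2 := by
  classical
  haveI : M.IsMaximal := hM.2.1
  haveI := isAlgClosed_res (M := M)
  haveI := Fintype.ofFinite (ConjClasses G)
  set eR : MonoidAlgebra (locRing M) G :=
    (idemLoc M B (memLocalRing_blockCoeff hB) : MonoidAlgebra (locRing M) G) with heR
  have heRc : IsClassElem eR := (idemLoc M B (memLocalRing_blockCoeff hB)).2
  have heRi : eR * eR = eR := congrArg Subtype.val (idemLoc_mul_self (memLocalRing_blockCoeff hB))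
  set e : MonoidAlgebra (Res M) G := mapRingHom G (red M) eR with he
  have hec : IsClassElem e := heRc.map _
  have hei : e * e = e := by rw [he, ← map_mul, heRi]
  have hecomm : ∀ a : MonoidAlgebra (Res M) G, Commute a e := hec.commute
  have hblk : BrauerPairs.IsBlockIdem (⊤ : Subgroup G) e := by
    have := BrauerPairs.isBlockIdem_redElem_blockCoeff (M := M) hB
    rw [BrauerPairs.redElem_blockCoeff hB] at this
    exact this
  obtain ⟨r, hr⟩ := exists_rank_of_idempotent (regMat_mul_self heRi)
  obtain ⟨r', hr'⟩ := exists_rank_of_idempotent (clsMat_mul_self heRc heRi)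
  have hr1 : (r : ℂ) = ∑ᶠ χ ∈ B, ((charDegree (χ : G → ℂ) : ℂ)) ^ 2 := by
    rw [← (hr ℂ (locRing M).subtype).2, regMat_map, heR, map_idemLoc, trace_regMat_blockIdem]
  have hr2 : r' = 2 := by
    have h := (hr' ℂ (locRing M).subtype).2
    rw [clsMat_map, heR, map_idemLoc, trace_clsMat_blockIdem, hk] at h
    exact_mod_cast h.symm
  -- the block algebra
  let I : Ideal (MonoidAlgebra (Res M) G) :=
    { carrier := {x | x * e = 0}
      add_mem' := fun {a b} (ha : a * e = 0) (hb : b * e = 0) =>
        show (a + b) * e = 0 by rw [add_mul, ha, hb, add_zero]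
      zero_mem' := zero_mul e
      smul_mem' := fun c x (hx : x * e = 0) =>
        show c * x * e = 0 by rw [mul_assoc, hx, mul_zero] }
  haveI : I.IsTwoSided := ⟨fun {a} b (ha : a * e = 0) =>
    show a * b * e = 0 by rw [mul_assoc, (hecomm b).eq, ← mul_assoc, ha, zero_mul]⟩
  let q := Ideal.Quotient.mkₐ (Res M) I
  have hq : Function.Surjective q := Ideal.Quotient.mkₐ_surjective _ I
  have hqe : ∀ a, q (a * e) = q a := fun a => by
    refine (Ideal.Quotient.mk_eq_mk_iff_sub_mem _ _).2 ?_
    show (a * e - a) * e = 0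
    rw [sub_mul, mul_assoc, hei, sub_self]
  have hq0 : ∀ a, q a = 0 ↔ a * e = 0 := fun a => Ideal.Quotient.eq_zero_iff_mem
  haveI : FiniteDimensional (Res M) (MonoidAlgebra (Res M) G) :=
    Module.Finite.of_basis (MonoidAlgebra.basis G (Res M))
  haveI : FiniteDimensional (Res M) (MonoidAlgebra (Res M) G ⧸ I) :=
    Module.Finite.of_surjective q.toLinearMap hq
  -- the dimension
  let cf : MonoidAlgebra (Res M) G ≃ₗ[Res M] (G → Res M) :=
    (MonoidAlgebra.basis G (Res M)).equivFun
  have hcf : ∀ a g, cf a g = a.coeff g := fun a g => rfl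
  let Θ : MonoidAlgebra (Res M) G →ₗ[Res M] (G → Res M) :=
    cf.toLinearMap.comp (LinearMap.mulRight (Res M) e)
  have hΘ : LinearMap.range Θ = LinearMap.range ((regMat eR).map (red M)).mulVecLin := by
    rw [regMat_map]
    have key : Θ = (regMat e).mulVecLin.comp cf.toLinearMap := by
      refine LinearMap.ext fun a => funext fun g => ?_
      simp only [Θ, LinearMap.comp_apply, LinearEquiv.coe_coe, LinearMap.mulRight_apply,
        Matrix.mulVecLin_apply, hcf, regMat_mulVec]
      rw [show ofFun (cf a) = a from MonoidAlgebra.ext (Finsupp.ext fun x => rfl)]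
    rw [key, LinearMap.range_comp, LinearEquiv.range, Submodule.map_top]
  have hker : LinearMap.ker Θ = LinearMap.ker q.toLinearMap := by
    ext a
    simp only [Θ, LinearMap.mem_ker, LinearMap.comp_apply, LinearEquiv.coe_coe,
      LinearEquiv.map_eq_zero_iff, LinearMap.mulRight_apply, AlgHom.toLinearMap_apply, hq0]
  have hdim : finrank (Res M) (MonoidAlgebra (Res M) G ⧸ I) = r := by
    rw [← (hr (Res M) (red M)).1, ← hΘ]
    have h1 := LinearMap.finrank_range_add_finrank_ker Θ
    have h2 := LinearMap.finrank_range_add_finrank_ker q.toLinearMap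
    rw [LinearMap.range_eq_top.2 hq, finrank_top, ← hker] at h2
    omega
  -- the trace functions
  let V := LinearMap.range ((clsMat eR).map (red M)).mulVecLin
  have hV : finrank (Res M) V = 2 := by rw [← hr2]; exact (hr' (Res M) (red M)).1
  have hVfix : ∀ φ ∈ V, ∀ g, ∑ h : G, e.coeff h * φ (ConjClasses.mk (g * h)) =
      φ (ConjClasses.mk g) := by
    rintro _ ⟨ψ, rfl⟩ g
    rw [← clsMat_mulVec hec]
    simp only [clsMat_map, Matrix.mulVecLin_apply, ← he, Matrix.mulVec_mulVec,
      clsMat_mul_self hec hei]
  set Cs := commSpan (Res M) (MonoidAlgebra (Res M) G ⧸ I) with hCs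
  let res : Module.Dual (Res M) ((MonoidAlgebra (Res M) G ⧸ I) ⧸ Cs) →ₗ[Res M]
      (ConjClasses G → Res M) :=
    LinearMap.pi fun c => LinearMap.applyₗ (Cs.mkQ (q (single c.out 1)))
  have hres : ∀ τ c, res τ c = τ (Cs.mkQ (q (single c.out 1))) := fun τ c => rfl
  have hconjq : ∀ g h : G, IsConj g h →
      Cs.mkQ (q (single g 1)) = Cs.mkQ (q (single h 1)) := by
    intro g h hgh
    obtain ⟨a, rfl⟩ := isConj_iff.1 hgh
    refine (Submodule.Quotient.eq _).2 ?_
    have h1 := comm_mem_commSpan (k := Res M) (q (single (g * a⁻¹) 1)) (q (single a 1))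
    rw [← map_mul, ← map_mul, single_mul_single, single_mul_single, mul_one] at h1
    rwa [inv_mul_cancel_right, ← mul_assoc] at h1
  have hres' : ∀ τ g, res τ (ConjClasses.mk g) = τ (Cs.mkQ (q (single g 1))) := fun τ g => by
    rw [hres, hconjq _ g (ConjClasses.mk_eq_mk_iff_isConj.1 (Quotient.out_eq _))]
  have hresV : LinearMap.range res ≤ V := by
    rintro _ ⟨τ, rfl⟩
    refine ⟨res τ, funext fun c => ?_⟩
    induction c using Quotient.inductionOn with
    | h g =>
      show (((clsMat eR).map (red M)) *ᵥ res τ) (ConjClasses.mk g) = res τ (ConjClasses.mk g)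
      rw [clsMat_map, ← he, clsMat_mulVec hec, hres']
      conv_rhs => rw [← hqe, show single g (1 : Res M) * e = ∑ h : G, e.coeff h • single (g * h) 1 by
        classical
        refine MonoidAlgebra.ext (Finsupp.ext fun x => ?_)
        rw [coeff_single_mul_apply, one_mul, coeff_finsetSum_apply,
          Finset.sum_eq_single (g⁻¹ * x)]
        · simp
        · intro h _ hh
          have : g * h ≠ x := fun hx => hh (by rw [← hx]; group)
          simp [this]
        · simp]
      simp only [map_sum, map_smul, hres', smul_eq_mul]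
  have hresinj : Function.Injective res := by
    rw [← LinearMap.ker_eq_bot, Submodule.eq_bot_iff]
    intro τ hτ
    have hz : ∀ a, τ (Cs.mkQ (q a)) = 0 := by
      intro a
      induction a using MonoidAlgebra.induction_linear with
      | zero => simp
      | add x y hx hy => simp only [map_add, hx, hy, add_zero]
      | single g c =>
        rw [show single g c = c • single g (1 : Res M) by rw [smul_single', mul_one], map_smul,
          map_smul, map_smul, ← hres', LinearMap.mem_ker.1 hτ, Pi.zero_apply, smul_zero]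
    refine LinearMap.ext fun z => ?_
    induction z using Submodule.Quotient.induction_on with
    | _ z =>
      obtain ⟨a, rfl⟩ := hq z
      exact hz a
  let ev : (ConjClasses G → Res M) →ₗ[Res M] (MonoidAlgebra (Res M) G →ₗ[Res M] Res M) :=
    { toFun := fun φ => (MonoidAlgebra.basis G (Res M)).constr (Res M)
        fun g => φ (ConjClasses.mk g)
      map_add' := fun a b => (MonoidAlgebra.basis G (Res M)).ext fun g => by
        simp [mul_add, Finset.sum_add_distrib]
      map_smul' := fun a b => (MonoidAlgebra.basis G (Res M)).ext fun g => by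
        simp [Finset.mul_sum, mul_left_comm] }
  have hev : ∀ φ g c, ev φ (single g c) = c * φ (ConjClasses.mk g) := by
    intro φ g c
    have h1 : ev φ (MonoidAlgebra.basis G (Res M) g) = φ (ConjClasses.mk g) :=
      (MonoidAlgebra.basis G (Res M)).constr_basis (Res M) _ g
    rw [MonoidAlgebra.basis_apply] at h1
    rw [show single g c = c • single g (1 : Res M) by rw [smul_single', mul_one], map_smul, h1,
      smul_eq_mul]
  have hsurjres : V ≤ LinearMap.range res := by
    intro φ hφ
    have hkill : ∀ a, ev φ (a * e) = ev φ a := by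
      intro a
      induction a using MonoidAlgebra.induction_linear with
      | zero => simp
      | add x y hx hy => rw [add_mul, map_add, map_add, hx, hy]
      | single g c =>
        rw [hev, ← hVfix φ hφ g, Finset.mul_sum]
        conv_lhs => rw [show e = ∑ h : G, single h (e.coeff h) by
          refine MonoidAlgebra.ext (Finsupp.ext fun x => ?_)
          simp [coeff_finsetSum_apply]]
        simp only [Finset.mul_sum, single_mul_single, map_sum, hev, mul_assoc]
    have hI : I.restrictScalars (Res M) ≤ LinearMap.ker (ev φ) := fun a ha => by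
      rw [LinearMap.mem_ker, ← hkill a, show a * e = 0 from ha, map_zero]
    let τ0 : (MonoidAlgebra (Res M) G ⧸ I) →ₗ[Res M] Res M :=
      ((I.restrictScalars (Res M)).liftQ (ev φ) hI).comp
        (Submodule.Quotient.restrictScalarsEquiv (Res M) I).symm.toLinearMap
    have hτ0 : ∀ a, τ0 (q a) = ev φ a := fun a => rfl
    have htr : ∀ a b, ev φ (a * b) = ev φ (b * a) := by
      intro a b
      induction a using MonoidAlgebra.induction_linear with
      | zero => simp
      | add x y hx hy => rw [add_mul, mul_add, map_add, map_add, hx, hy]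
      | single g c =>
        induction b using MonoidAlgebra.induction_linear with
        | zero => simp
        | add x y hx hy => rw [add_mul, mul_add, map_add, map_add, hx, hy]
        | single h d =>
          rw [single_mul_single, single_mul_single, hev, hev, mul_comm c d]
          congr 2
          exact ConjClasses.mk_eq_mk_iff_isConj.2 (isConj_iff.2 ⟨h, by group⟩)
    have hC : Cs ≤ LinearMap.ker τ0 := commSpan_le_ker τ0 fun x y => by
      obtain ⟨a, rfl⟩ := hq x
      obtain ⟨b, rfl⟩ := hq y
      rw [← map_mul, ← map_mul, hτ0, hτ0, htr]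
    refine ⟨Cs.liftQ τ0 hC, funext fun c => ?_⟩
    rw [hres, Submodule.mkQ_apply, Submodule.liftQ_apply, hτ0, hev, one_mul]
    exact congrArg φ (Quotient.out_eq c)
  have h2 : finrank (Res M) ((MonoidAlgebra (Res M) G ⧸ I) ⧸ Cs) = 2 := by
    rw [← Subspace.dual_finrank_eq, ← hV, ← le_antisymm hresV hsurjres,
      LinearMap.finrank_range_of_inj hresinj]
  -- the symmetrizing form
  let ε0 : MonoidAlgebra (Res M) G →ₗ[Res M] Res M :=
    ((Finsupp.lapply 1).comp (MonoidAlgebra.coeffLinearEquiv (Res M)).toLinearMap).comp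
      (LinearMap.mulRight (Res M) e)
  have hε0 : ∀ a, ε0 a = (a * e).coeff 1 := fun a => rfl
  have hεI : I.restrictScalars (Res M) ≤ LinearMap.ker ε0 := fun a ha => by
    rw [LinearMap.mem_ker, hε0, show a * e = 0 from ha]; rfl
  let ε : (MonoidAlgebra (Res M) G ⧸ I) →ₗ[Res M] Res M :=
    ((I.restrictScalars (Res M)).liftQ ε0 hεI).comp
      (Submodule.Quotient.restrictScalarsEquiv (Res M) I).symm.toLinearMap
  have hε : ∀ a, ε (q a) = (a * e).coeff 1 := fun a => rfl
  have hεtr : ∀ x y, ε (x * y) = ε (y * x) := by
    intro x y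
    obtain ⟨a, rfl⟩ := hq x
    obtain ⟨b, rfl⟩ := hq y
    rw [← map_mul, ← map_mul, hε, hε, mul_assoc a b e, mul_assoc b a e, (hecomm a).eq, ← mul_assoc b,
      coeff_mul_eq_sum a, coeff_mul_eq_sum (b * e) a]
    exact Fintype.sum_equiv (Equiv.inv G) _ _ fun g => by simp [mul_comm]
  have hnd : ∀ x, (∀ y, ε (x * y) = 0) → x = 0 := by
    intro x hx
    obtain ⟨a, rfl⟩ := hq x
    rw [hq0]
    refine MonoidAlgebra.ext (Finsupp.ext fun g => ?_)
    have h := hx (q (single g⁻¹ 1))
    rw [← map_mul, hε, mul_assoc, (hecomm _).eq, ← mul_assoc, coeff_mul_single_apply, mul_one,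
      inv_inv, one_mul] at h
    exact h
  have hprim : ∀ c : MonoidAlgebra (Res M) G ⧸ I, (∀ x, c * x = x * c) → c * c = c →
      c = 0 ∨ c = 1 := by
    intro c hc hcc
    obtain ⟨a, rfl⟩ := hq c
    have hz : IsClassElem (a * e) := isClassElem_iff_commute.2 fun h => by
      have h1 := hc (q (single h 1))
      rw [← map_mul, ← map_mul, ← sub_eq_zero, ← map_sub, hq0, sub_mul, sub_eq_zero] at h1
      show single h 1 * (a * e) = a * e * single h 1
      rw [← mul_assoc, ← h1, mul_assoc a e, ← (hecomm (single h 1)).eq, mul_assoc]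
    have hzz : a * e * (a * e) = a * e := by
      rw [← map_mul, ← sub_eq_zero, ← map_sub, hq0, sub_mul, sub_eq_zero] at hcc
      rw [mul_assoc, ← mul_assoc e, ← (hecomm a).eq, mul_assoc a e, hei, ← mul_assoc, hcc]
    rcases hblk.2.2.2 (a * e) (BrauerPairs.mem_classAlg_iff_ctr.1 hz) hzz with h | h <;>
      rw [← (hecomm (a * e)).eq, mul_assoc, hei] at h
    · left; rw [hq0, h]
    · right; rw [← hqe a, h, ← map_one q, ← hqe 1, one_mul]
  obtain ⟨n, hn⟩ := exists_finrank_eq_two_mul_sq h2 ε hεtr hnd hprim
  refine ⟨n, ?_⟩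
  rw [← hr1, ← hdim, hn]
  push_cast
  ring

end CfsgLib.BrauerCharacters
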