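import Cfsg.Agent.Lib.BrauerCharacters.SymmetricTwo
import Mathlib.Algebra.Algebra.Operations

/-!
# Algebras with one simple module and few trace functions

A symmetric algebra with one simple module and at most four independent trace functions is a
matrix algebra over a local algebra of that dimension.
-/

set_option autoImplicit false
set_option linter.unusedSectionVars false
set_option linter.style.haveILetI false

namespace CfsgLib.BrauerCharacters

open Module

variable {k : Type*} [Field k] {B : Type*} [Ring B] [Algebra k B] [FiniteDimensional k B] {n : ℕ}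
  (π : B →ₐ[k] Matrix (Fin n) (Fin n) k)

/-- The corner at an idempotent lifting a rank one idempotent. -/
theorem exists_corner (hn : 0 < n) (hπ : Function.Surjective π)
    (hnil : IsNilpotent (RingHom.ker π)) :
    ∃ (f : B) (A : Submodule k B), f * f = f ∧ π f = Matrix.single ⟨0, hn⟩ ⟨0, hn⟩ 1 ∧
      A = LinearMap.range ((LinearMap.mulLeft k f).comp (LinearMap.mulRight k f)) ∧
      finrank k B = n ^ 2 * finrank k A ∧
      finrank k (LinearMap.range (LinearMap.mulRight k f)) = n * finrank k A ∧
      finrank k (B ⧸ commSpan k B) ≤ finrank k A ∧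
      finrank k A ≤ finrank k (Submodule.span k {z | ∃ x ∈ A, ∃ y ∈ A, z = x * y - y * x}) +
        finrank k (B ⧸ commSpan k B) := by
  classical
  set K : Ideal B := RingHom.ker π with hK
  haveI : K.IsTwoSided := by rw [hK]; infer_instance
  have hmemK : ∀ x, x ∈ K ↔ π x = 0 := fun x => RingHom.mem_ker
  obtain ⟨N, hN⟩ := hnil
  rw [Submodule.zero_eq_bot] at hN
  have hK0 : ∀ x : B, x ∈ K ^ 0 := fun x => by rw [Submodule.pow_zero, Ideal.one_eq_top]; trivial
  have hsucc : ∀ (r : ℕ) {x j : B}, x ∈ K ^ r → j ∈ K → x * j ∈ K ^ (r + 1) := fun r x j hx hj => by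
    rw [Submodule.pow_succ]; exact Ideal.mul_mem_mul hx hj
  have hsucc' : ∀ (r : ℕ) {x j : B}, x ∈ K ^ r → j ∈ K → j * x ∈ K ^ (r + 1) := fun r x j hx hj => by
    rw [Ideal.IsTwoSided.pow_succ]; exact Ideal.mul_mem_mul hj hx
  have hnilK : ∀ x ∈ K, IsNilpotent x := fun x hx => ⟨N, by
    have := Ideal.pow_mem_pow hx N
    rwa [hN, Submodule.mem_bot] at this⟩
  -- lifts of the matrix units
  let o : Fin n := ⟨0, hn⟩
  obtain ⟨f, hf, hπf⟩ := exists_isIdempotentElem_eq_of_ker_isNilpotent (π : B →+* _) hnilK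
    (Matrix.single o o (1 : k)) (RingHom.mem_range.2 (hπ (Matrix.single o o (1 : k)))) (by simp [IsIdempotentElem])
  have hff : f * f = f := hf
  change π f = _ at hπf
  choose a ha using fun i : Fin n => hπ (Matrix.single o i (1 : k))
  choose b hb using fun i : Fin n => hπ (Matrix.single i o (1 : k))
  set u := ∑ i, b i * f * a i with hu
  have hπu : π u = 1 := by
    simp only [hu, map_sum, map_mul, ha, hb, hπf, Matrix.single_mul_single_same, mul_one]
    exact Matrix.sum_single_eq_diagonal (fun _ => (1 : k))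
  have huu : IsUnit u := by
    have h := (hnilK (1 - u) ((hmemK _).2 (by rw [map_sub, map_one, hπu, sub_self]))).isUnit_one_sub
    rwa [sub_sub_cancel] at h
  -- the corner at `f`
  set A : Submodule k B :=
    LinearMap.range ((LinearMap.mulLeft k f).comp (LinearMap.mulRight k f)) with hA
  have hAmem : ∀ x : B, f * x * f ∈ A := fun x => ⟨x, by simp [mul_assoc]⟩
  have hAfix : ∀ x ∈ A, f * x = x ∧ x * f = x := by
    rintro _ ⟨x, rfl⟩
    simp only [LinearMap.comp_apply, LinearMap.mulLeft_apply, LinearMap.mulRight_apply]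
    exact ⟨by rw [← mul_assoc, hff], by rw [mul_assoc, mul_assoc, hff]⟩
  -- the dimension of `B`
  let Φ : B →ₗ[k] (Fin n × Fin n → A) := LinearMap.pi fun q =>
    LinearMap.codRestrict A
      ((LinearMap.mulLeft k (f * a q.1)).comp (LinearMap.mulRight k (b q.2 * f)))
      (fun x => by
        convert hAmem (a q.1 * x * b q.2) using 1
        simp [mul_assoc])
  have hΦ : ∀ x q, (Φ x q : B) = f * a q.1 * (x * (b q.2 * f)) := fun x q => rfl
  have hΦinj : Function.Injective Φ := by
    rw [← LinearMap.ker_eq_bot, Submodule.eq_bot_iff]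
    intro x hx
    have h1 : u * x * u = 0 := by
      rw [hu, Finset.sum_mul, Finset.sum_mul]
      refine Finset.sum_eq_zero fun i _ => ?_
      rw [Finset.mul_sum]
      refine Finset.sum_eq_zero fun j _ => ?_
      have h := congrArg (fun z : A => (z : B)) (congrFun (LinearMap.mem_ker.1 hx) (i, j))
      simp only [hΦ, Pi.zero_apply, ZeroMemClass.coe_zero] at h
      calc b i * f * a i * x * (b j * f * a j)
          = b i * (f * a i * (x * (b j * f))) * a j := by simp [mul_assoc]
        _ = 0 := by rw [h, mul_zero, zero_mul]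
    rwa [huu.mul_left_eq_zero, huu.mul_right_eq_zero] at h1
  let Ψ : (Fin n × Fin n → A) →ₗ[k] B := ∑ q : Fin n × Fin n,
    ((LinearMap.mulLeft k (b q.1 * f)).comp (LinearMap.mulRight k (f * a q.2))).comp
      (A.subtype.comp (LinearMap.proj q))
  have hΨ : ∀ y, Ψ y = ∑ q : Fin n × Fin n, b q.1 * f * ((y q : B) * (f * a q.2)) := fun y => by
    simp [Ψ, LinearMap.sum_apply, mul_assoc]
  have hΨinj : Function.Injective Ψ := by
    rw [← LinearMap.ker_eq_bot, Submodule.eq_bot_iff]
    intro y hy
    set v : Fin n → Fin n → B := fun i l => f * a i * (b l * f) with hv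
    set dl : Fin n → Fin n → B := fun i l => if i = l then f else 0 with hdl
    have hd : ∀ i l, v i l - dl i l ∈ K := by
      intro i l
      rw [hmemK, map_sub]
      by_cases h : i = l
      · subst h
        simp [hv, hdl, ha, hb, hπf]
      · simp [hv, hdl, ha, hb, hπf, h]
    have hall : ∀ r, ∀ q, (y q : B) ∈ K ^ r := by
      intro r
      induction r with
      | zero => exact fun q => hK0 _
      | succ r ih =>
        rintro ⟨i, j⟩
        have h0 : ∑ q : Fin n × Fin n, v i q.1 * (y q : B) * v q.2 j = 0 := by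
          have := congrArg (fun z => f * a i * (z * (b j * f))) (LinearMap.mem_ker.1 hy)
          simp only [hΨ, zero_mul, mul_zero, Finset.sum_mul, Finset.mul_sum] at this
          rw [← this]
          refine Finset.sum_congr rfl fun q _ => ?_
          simp only [hv, mul_assoc, ← mul_assoc f f, hff]
        have h1 : ∑ q : Fin n × Fin n, dl i q.1 * (y q : B) * dl q.2 j = (y (i, j) : B) := by
          rw [Finset.sum_eq_single (i, j)]
          · simp [hdl, hAfix _ (y (i, j)).2]
          · rintro ⟨l, m⟩ - hne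
            by_cases h : i = l
            · have : m ≠ j := fun h' => hne (by rw [h, h'])
              simp [hdl, this]
            · simp [hdl, h]
          · simp
        have h2 : (y (i, j) : B) = -∑ q : Fin n × Fin n,
            ((v i q.1 - dl i q.1) * (y q : B) * dl q.2 j +
              v i q.1 * (y q : B) * (v q.2 j - dl q.2 j)) := by
          rw [← h1, eq_neg_iff_add_eq_zero, ← Finset.sum_add_distrib, ← h0]
          exact Finset.sum_congr rfl fun q _ => by simp only [sub_mul, mul_sub]; abel
        rw [h2]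
        refine neg_mem (sum_mem fun q _ => add_mem ?_ ?_)
        · exact Ideal.mul_mem_right _ _ (hsucc' r (ih q) (hd _ _))
        · exact hsucc r (Ideal.mul_mem_left _ _ (ih q)) (hd _ _)
    funext q
    have := hall N q
    rw [hN, Submodule.mem_bot] at this
    exact Subtype.ext this
  have hdim : finrank k B = n ^ 2 * finrank k A := by
    have e1 : finrank k (Fin n × Fin n → A) = n ^ 2 * finrank k A := by
      rw [Module.finrank_pi_fintype]; simp [sq]
    rw [← e1]
    exact le_antisymm (LinearMap.finrank_le_finrank_of_injective hΦinj)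
      (LinearMap.finrank_le_finrank_of_injective hΨinj)
  -- trace functions on the corner
  set CA : Submodule k B := Submodule.span k {z | ∃ x ∈ A, ∃ y ∈ A, z = x * y - y * x} with hCA
  obtain ⟨w, hw⟩ := huu.exists_left_inv
  set c : Fin n → B := fun i => w * b i with hc
  have hone : ∑ i, c i * f * a i = 1 := by
    rw [← hw, hu, Finset.mul_sum]; exact Finset.sum_congr rfl fun i _ => by simp [hc, mul_assoc]
  let φ : B →ₗ[k] B := ∑ i, (LinearMap.mulLeft k (f * a i)).comp (LinearMap.mulRight k (c i * f))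
  have hφ : ∀ x, φ x = ∑ i, f * a i * (x * (c i * f)) := fun x => by simp [φ, LinearMap.sum_apply, mul_assoc]
  have hAcomm : ∀ x ∈ A, ∀ y ∈ A, x * y - y * x ∈ CA := fun x hx y hy =>
    Submodule.subset_span ⟨x, hx, y, hy, rfl⟩
  have hφC : commSpan k B ≤ CA.comap φ := by
    refine Submodule.span_le.2 ?_
    rintro _ ⟨x, y, rfl⟩
    rw [SetLike.mem_coe, Submodule.mem_comap, map_sub]
    have hexp : ∀ x y : B, φ (x * y) =
        ∑ i, ∑ j, (f * (a i * x * c j) * f) * (f * (a j * y * c i) * f) := by
      intro x y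
      rw [hφ]
      refine Finset.sum_congr rfl fun i _ => ?_
      calc f * a i * (x * y * (c i * f))
          = f * a i * x * (∑ j, c j * f * a j) * (y * (c i * f)) := by
            rw [hone, mul_one]; simp only [mul_assoc]
        _ = _ := by
            rw [Finset.mul_sum, Finset.sum_mul]
            refine Finset.sum_congr rfl fun j _ => ?_
            simp only [mul_assoc, ← mul_assoc f f, hff]
    rw [hexp, hexp, Finset.sum_comm (f := fun i j => (f * (a i * y * c j) * f) * _),
      ← Finset.sum_sub_distrib]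
    refine sum_mem fun i _ => ?_
    rw [← Finset.sum_sub_distrib]
    exact sum_mem fun j _ => hAcomm _ (hAmem _) _ (hAmem _)
  have hφA : ∀ x ∈ A, φ x - x ∈ CA := by
    intro x hx
    obtain ⟨hfx, hxf⟩ := hAfix x hx
    have hx' : x = ∑ i, (f * (x * c i) * f) * (f * a i * f) := by
      calc x = x * (∑ i, c i * f * a i) * f := by rw [hone, mul_one, hxf]
        _ = _ := by
            rw [Finset.mul_sum, Finset.sum_mul]
            refine Finset.sum_congr rfl fun i _ => ?_
            simp only [mul_assoc, ← mul_assoc f f, hff]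
            rw [← mul_assoc f x, hfx]
    have hφx : φ x = ∑ i, (f * a i * f) * (f * (x * c i) * f) := by
      rw [hφ]
      refine Finset.sum_congr rfl fun i _ => ?_
      simp only [mul_assoc, ← mul_assoc f f, hff]
      rw [← mul_assoc f x, hfx]
    rw [hφx]
    nth_rewrite 2 [hx']
    rw [← Finset.sum_sub_distrib]
    exact sum_mem fun i _ => hAcomm _ (hAmem _) _ (hAmem _)
  let q : A →ₗ[k] B ⧸ commSpan k B := (commSpan k B).mkQ.comp A.subtype
  have hkerq : (LinearMap.ker q).map A.subtype ≤ CA := by
    rintro _ ⟨⟨x, hx⟩, hxq, rfl⟩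
    have h1 : x ∈ commSpan k B := (Submodule.Quotient.mk_eq_zero _).1 hxq
    have h1' : φ x ∈ CA := hφC h1
    have h2 := sub_mem h1' (hφA x hx)
    rwa [sub_sub_cancel] at h2
  have hqsurj : Function.Surjective q := by
    intro z
    induction z using Submodule.Quotient.induction_on with
    | _ x =>
      refine ⟨⟨∑ i, f * (a i * x * c i) * f, sum_mem fun i _ => hAmem _⟩, ?_⟩
      show Submodule.Quotient.mk (∑ i, f * (a i * x * c i) * f) = Submodule.Quotient.mk x
      rw [Submodule.Quotient.eq]
      have hx : x = ∑ i, c i * f * a i * x := by rw [← Finset.sum_mul, hone, one_mul]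
      nth_rewrite 2 [hx]
      rw [← Finset.sum_sub_distrib]
      refine sum_mem fun i _ => ?_
      convert comm_mem_commSpan (k := k) (f * a i * x) (c i * f) using 1
      simp only [mul_assoc, ← mul_assoc f f, hff]
  refine ⟨f, A, hff, hπf, hA, hdim, ?_, ?_, ?_⟩
  · -- one side
    set L := LinearMap.range (LinearMap.mulRight k f) with hL
    let Φ1 : L →ₗ[k] (Fin n → A) := LinearMap.pi fun i =>
      LinearMap.codRestrict A ((LinearMap.mulLeft k (f * a i)).comp L.subtype) fun x => by
        obtain ⟨y, hy⟩ := x.2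
        simp only [LinearMap.mulRight_apply] at hy
        simp only [LinearMap.comp_apply, Submodule.subtype_apply, LinearMap.mulLeft_apply, ← hy]
        convert hAmem (a i * y) using 1
        simp [mul_assoc]
    have hΦ1 : Function.Injective Φ1 := by
      rw [← LinearMap.ker_eq_bot, Submodule.eq_bot_iff]
      intro x hx
      have h1 : u * (x : B) = 0 := by
        rw [hu, Finset.sum_mul]
        refine Finset.sum_eq_zero fun i _ => ?_
        have h : f * a i * (x : B) = 0 :=
          congrArg (fun z : A => (z : B)) (congrFun (LinearMap.mem_ker.1 hx) i)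
        calc b i * f * a i * (x : B) = b i * (f * a i * (x : B)) := by simp [mul_assoc]
          _ = 0 := by rw [h, mul_zero]
      exact Subtype.ext (huu.mul_right_eq_zero.1 h1)
    let Φ2 : B →ₗ[k] (Fin n → L) := LinearMap.pi fun j =>
      LinearMap.codRestrict L (LinearMap.mulRight k (b j * f)) fun x =>
        ⟨x * b j, by simp [mul_assoc]⟩
    have hΦ2 : Function.Injective Φ2 := by
      rw [← LinearMap.ker_eq_bot, Submodule.eq_bot_iff]
      intro x hx
      have h1 : x * u = 0 := by
        rw [hu, Finset.mul_sum]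
        refine Finset.sum_eq_zero fun j _ => ?_
        have h : x * (b j * f) = 0 :=
          congrArg (fun z : L => (z : B)) (congrFun (LinearMap.mem_ker.1 hx) j)
        rw [← mul_assoc, h, zero_mul]
      exact huu.mul_left_eq_zero.1 h1
    have e1 := LinearMap.finrank_le_finrank_of_injective hΦ1
    have e2 := LinearMap.finrank_le_finrank_of_injective hΦ2
    rw [Module.finrank_pi_fintype, Finset.sum_const, Finset.card_univ, Fintype.card_fin,
      smul_eq_mul] at e1 e2
    rw [hdim, sq, mul_assoc] at e2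
    exact le_antisymm e1 (Nat.le_of_mul_le_mul_left e2 hn)
  · rw [← finrank_top k (B ⧸ commSpan k B), ← LinearMap.range_eq_top.2 hqsurj]
    exact LinearMap.finrank_range_le q
  · have h1 := LinearMap.finrank_range_add_finrank_ker q
    rw [LinearMap.range_eq_top.2 hqsurj, finrank_top] at h1
    have h3 : finrank k (LinearMap.ker q) ≤ finrank k CA := by
      rw [(Submodule.equivMapOfInjective A.subtype A.subtype_injective _).finrank_eq]
      exact Submodule.finrank_mono hkerq
    rw [← hCA]
    omega

/-- One simple module, at most four trace functions and a symmetrizing form. -/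
theorem exists_idem_of_finrank_le_four (hn : 0 < n) (hπ : Function.Surjective π)
    (hnil : IsNilpotent (RingHom.ker π)) {c : ℕ}
    (hc : finrank k (B ⧸ commSpan k B) = c) (hc4 : c ≤ 4) (ε : B →ₗ[k] k)
    (hε : ∀ x y, ε (x * y) = ε (y * x)) (hnd : ∀ x, (∀ y, ε (x * y) = 0) → x = 0) :
    ∃ f : B, f * f = f ∧ finrank k B = c * n ^ 2 ∧
      finrank k (LinearMap.range (LinearMap.mulRight k f)) = c * n := by
  classical
  obtain ⟨f, A, hff, hπf, hA, hdim, hdimL, hge, hle⟩ := exists_corner π hn hπ hnil
  rw [hc] at hge hle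
  suffices h : Submodule.span k {z : B | ∃ x ∈ A, ∃ y ∈ A, z = x * y - y * x} = ⊥ by
    rw [h, finrank_bot, zero_add] at hle
    have hAc : finrank k A = c := le_antisymm hle hge
    exact ⟨f, hff, by rw [hdim, hAc, mul_comm], by rw [hdimL, hAc, mul_comm]⟩
  set CA : Submodule k B := Submodule.span k {z | ∃ x ∈ A, ∃ y ∈ A, z = x * y - y * x} with hCA
  have hAmem : ∀ x : B, f * x * f ∈ A := fun x => hA ▸ ⟨x, by simp [mul_assoc]⟩
  have hAfix : ∀ x ∈ A, f * x = x ∧ x * f = x := by
    intro x hx
    rw [hA] at hx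
    obtain ⟨y, rfl⟩ := hx
    simp only [LinearMap.comp_apply, LinearMap.mulLeft_apply, LinearMap.mulRight_apply]
    exact ⟨by rw [← mul_assoc, hff], by rw [mul_assoc, mul_assoc, hff]⟩
  set K : Ideal B := RingHom.ker π with hK
  haveI : K.IsTwoSided := by rw [hK]; infer_instance
  obtain ⟨N, hN⟩ := hnil
  rw [Submodule.zero_eq_bot] at hN
  set m : Submodule k B := A ⊓ K.restrictScalars k with hm
  have hfA : f ∈ A := by have := hAmem 1; rwa [mul_one, hff] at this
  set o : Fin n := ⟨0, hn⟩
  have hfK : f ∉ K := by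
    intro h
    have := congrFun (congrFun ((hπf.symm).trans (RingHom.mem_ker.1 h)) o) o
    simp at this
  have hdec : ∀ x ∈ A, ∃ r : k, x - r • f ∈ m := by
    intro x hx
    refine ⟨π x o o, sub_mem hx (A.smul_mem _ hfA), ?_⟩
    show x - π x o o • f ∈ K
    obtain ⟨hfx, hxf⟩ := hAfix x hx
    rw [hK, RingHom.mem_ker, map_sub, map_smul, hπf]
    conv_lhs => enter [1]; rw [← hxf, ← hfx, map_mul, map_mul, hπf]
    simp [Matrix.single_mul_mul_single, o]
  have hA_m : A ≤ m ⊔ (k ∙ f) := fun x hx => by
    obtain ⟨r, hr⟩ := hdec x hx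
    exact Submodule.mem_sup.2 ⟨_, hr, r • f, Submodule.smul_mem _ _
      (Submodule.mem_span_singleton_self f), sub_add_cancel _ _⟩
  have hdimA' : finrank k m < finrank k A := Submodule.finrank_lt_finrank_of_lt
    (lt_of_le_of_ne inf_le_left fun h => hfK (h.symm ▸ hfA : f ∈ m).2)
  have hmA : m ≤ A := inf_le_left
  have hmm : m * m ≤ m := Submodule.mul_le.2 fun x hx y hy => by
    refine ⟨?_, K.mul_mem_left _ hy.2⟩
    have := hAmem (x * y)
    rwa [mul_assoc, mul_assoc, (hAfix y hy.1).2, ← mul_assoc, (hAfix x hx.1).1] at this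
  have hCA2 : CA ≤ m * m := by
    refine Submodule.span_le.2 ?_
    rintro _ ⟨x, hx, y, hy, rfl⟩
    obtain ⟨r, hr⟩ := hdec x hx
    obtain ⟨s, hs⟩ := hdec y hy
    have h : x * y - y * x = (x - r • f) * (y - s • f) - (y - s • f) * (x - r • f) := by
      obtain ⟨hfx, hxf⟩ := hAfix x hx
      obtain ⟨hfy, hyf⟩ := hAfix y hy
      simp only [sub_mul, mul_sub, smul_mul_assoc, mul_smul_comm, smul_sub, hfx, hxf, hfy, hyf, hff]
      rw [smul_comm r s f]
      abel
    rw [SetLike.mem_coe, h]
    exact sub_mem (Submodule.mul_mem_mul hr hs) (Submodule.mul_mem_mul hs hr)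
  -- powers of the radical of the corner die
  have hzero : ∀ X : Submodule k B, X ≤ K.restrictScalars k → X ≤ X * m → X = ⊥ := by
    intro X hXK hX
    have h : ∀ r, X ≤ (K ^ (r + 1)).restrictScalars k := by
      intro r
      induction r with
      | zero => intro x hx; simpa [Submodule.pow_one] using hXK hx
      | succ r ih =>
        refine hX.trans (Submodule.mul_le.2 fun x hx y hy => ?_)
        show x * y ∈ K ^ (r + 1 + 1)
        rw [Submodule.pow_succ]
        exact Ideal.mul_mem_mul (ih hx) hy.2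
    rw [eq_bot_iff]
    intro x hx
    have h1 : x ∈ K ^ (N + 1) := h N hx
    rw [Submodule.pow_succ, hN, Submodule.bot_mul] at h1
    exact h1
  -- a subspace stable under the corner with vanishing form is zero
  have hideal : ∀ X : Submodule k B, X ≤ A → (∀ x ∈ X, ∀ y ∈ m, x * y ∈ X) →
      (∀ x ∈ X, ε x = 0) → X = ⊥ := by
    intro X hXA hXm hX0
    rw [eq_bot_iff]
    intro x hx
    refine hnd x fun y => ?_
    obtain ⟨hfx, hxf⟩ := hAfix x (hXA hx)
    obtain ⟨r, hr⟩ := hdec (f * y * f) (hAmem y)
    have h1 : x * (f * y * f) ∈ X := by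
      have h2 := add_mem (hXm x hx _ hr) (X.smul_mem r hx)
      rwa [mul_sub, mul_smul_comm, hxf, sub_add_cancel] at h2
    rw [← hX0 _ h1]
    conv_lhs => rw [← hxf, ← hfx, mul_assoc, mul_assoc, hε]
    congr 1
    simp only [mul_assoc]
  have hεCA : ∀ z ∈ CA, ε z = 0 := fun z hz => by
    induction hz using Submodule.span_induction with
    | mem z hz => obtain ⟨x, -, y, -, rfl⟩ := hz; rw [map_sub, hε, sub_self]
    | zero => exact map_zero _
    | add x y _ _ h1 h2 => rw [map_add, h1, h2, add_zero]
    | smul r x _ h => rw [map_smul, h, smul_zero]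
  have hlow : finrank k m ≤ finrank k CA + (c - 1) := by omega
  have hCAm : CA ≤ m := hCA2.trans hmm
  have hsup : ∀ X : Submodule k B, ∀ t ∈ m, CA ≤ X → X ≤ m → finrank k m ≤ finrank k X + 1 →
      t ∉ X → m ≤ X ⊔ (k ∙ t) := by
    intro X t ht _ hXm hdimX htX
    refine le_of_eq (Submodule.eq_of_le_of_finrank_le
      (sup_le hXm (Submodule.span_le.2 (by simpa using ht))) ?_).symm
    have h1 : X < X ⊔ (k ∙ t) := lt_of_le_of_ne le_sup_left fun he =>
      htX (he.symm ▸ (le_sup_right : (k ∙ t) ≤ _) (Submodule.mem_span_singleton_self t))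
    have := Submodule.finrank_lt_finrank_of_lt h1
    omega
  -- commutative case
  have hcomm : ∀ t ∈ m, m ≤ m * m ⊔ (k ∙ t) → CA = ⊥ := by
    intro t ht hmt
    set S : Submodule k B := Submodule.span k (Set.range fun i : ℕ => t ^ (i + 1)) with hS
    have hSm : S ≤ m := Submodule.span_le.2 fun _ ⟨i, hi⟩ => by
      rw [← hi]
      show t ^ (i + 1) ∈ m
      clear hi
      induction i with
      | zero => simpa using ht
      | succ i ih =>
        rw [pow_succ]
        exact hmm (Submodule.mul_mem_mul ih ht)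
    have hSmul : ∀ x ∈ S, ∀ y ∈ S, x * y ∈ S ∧ x * y = y * x := by
      intro x hx y hy
      induction hx using Submodule.span_induction with
      | mem x hx =>
        obtain ⟨i, rfl⟩ := hx
        induction hy using Submodule.span_induction with
        | mem y hy =>
          obtain ⟨j, rfl⟩ := hy
          simp only [← pow_add, add_comm]
          refine ⟨Submodule.subset_span ⟨i + j + 1, ?_⟩, trivial⟩
          show t ^ (i + j + 1 + 1) = _
          congr 1; omega
        | zero => simp
        | add y z _ _ h1 h2 =>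
          rw [mul_add, add_mul]
          exact ⟨add_mem h1.1 h2.1, by rw [h1.2, h2.2]⟩
        | smul r y _ h1 =>
          rw [mul_smul_comm, smul_mul_assoc]
          exact ⟨Submodule.smul_mem _ r h1.1, by rw [h1.2]⟩
      | zero => simp
      | add y z _ _ h1 h2 =>
        rw [mul_add, add_mul]
        exact ⟨add_mem h1.1 h2.1, by rw [h1.2, h2.2]⟩
      | smul r y _ h1 =>
        rw [mul_smul_comm, smul_mul_assoc]
        exact ⟨Submodule.smul_mem _ r h1.1, by rw [h1.2]⟩
    have hst : (k ∙ t) ≤ S := Submodule.span_le.2 (by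
      simpa using Submodule.subset_span (R := k) (show t ∈ Set.range (fun i : ℕ => t ^ (i + 1)) from ⟨0, pow_one t⟩))
    -- modulo ever higher powers the radical is generated by `t`
    have hgen : ∀ r : ℕ, m ≤ S ⊔ (K ^ (r + 1)).restrictScalars k := by
      intro r
      induction r with
      | zero => intro x hx; exact Submodule.mem_sup_right (by simpa [Submodule.pow_one] using hx.2)
      | succ r ih =>
        refine hmt.trans (sup_le (Submodule.mul_le.2 fun x hx y hy => ?_) (hst.trans le_sup_left))
        obtain ⟨s, hs, j, hj, rfl⟩ := Submodule.mem_sup.1 (ih hx)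
        obtain ⟨s', hs', j', hj', rfl⟩ := Submodule.mem_sup.1 (ih hy)
        have hj'K : j' ∈ K := by
          have := sub_mem (hy.2 : s' + j' ∈ K) ((hSm hs').2 : s' ∈ K)
          rwa [add_sub_cancel_left] at this
        refine Submodule.mem_sup.2 ⟨s * s', (hSmul s hs s' hs').1, s * j' + j * s' + j * j', ?_, ?_⟩
        · show s * j' + j * s' + j * j' ∈ K ^ (r + 1 + 1)
          refine add_mem (add_mem ?_ ?_) ?_
          · rw [Ideal.IsTwoSided.pow_succ]; exact Ideal.mul_mem_mul (hSm hs).2 hj'
          · rw [Submodule.pow_succ]; exact Ideal.mul_mem_mul hj (hSm hs').2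
          · rw [Submodule.pow_succ]; exact Ideal.mul_mem_mul hj hj'K
        · simp only [add_mul, mul_add]; abel
    have hmS : m ≤ S := fun x hx => by
      obtain ⟨s, hs, j, hj, rfl⟩ := Submodule.mem_sup.1 (hgen N hx)
      have : j ∈ K ^ (N + 1) := hj
      rw [Submodule.pow_succ, hN, Submodule.bot_mul] at this
      rw [(Submodule.mem_bot _).1 this, add_zero]
      exact hs
    rw [eq_bot_iff]
    refine Submodule.span_le.2 ?_
    rintro _ ⟨x, hx, y, hy, rfl⟩
    obtain ⟨r, hr⟩ := hdec x hx
    obtain ⟨s, hs⟩ := hdec y hy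
    obtain ⟨hfx, hxf⟩ := hAfix x hx
    obtain ⟨hfy, hyf⟩ := hAfix y hy
    have h := (hSmul _ (hmS hr) _ (hmS hs)).2
    simp only [sub_mul, mul_sub, smul_mul_assoc, mul_smul_comm, smul_sub, hfx, hxf, hfy, hyf, hff] at h
    rw [smul_comm r s f] at h
    rw [SetLike.mem_coe, Submodule.mem_bot, sub_eq_zero]
    linear_combination (norm := abel) h
  by_cases h0 : m ≤ m * m
  · exact hcomm 0 (zero_mem _) (h0.trans le_sup_left)
  obtain ⟨x, hxm, hx⟩ := SetLike.not_le_iff_exists.1 h0
  set X1 := m * m ⊔ (k ∙ x) with hX1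
  by_cases h1 : m ≤ X1
  · exact hcomm x hxm h1
  obtain ⟨y, hym, hy⟩ := SetLike.not_le_iff_exists.1 h1
  have hX1m : X1 ≤ m := sup_le hmm (Submodule.span_le.2 (by simpa using hxm))
  have hstep1 : finrank k ↥(m * m) + 1 ≤ finrank k X1 := by
    refine Submodule.finrank_lt_finrank_of_lt (lt_of_le_of_ne le_sup_left fun he => hx ?_)
    exact he.symm ▸ (le_sup_right : (k ∙ x) ≤ X1) (Submodule.mem_span_singleton_self x)
  set X2 := X1 ⊔ (k ∙ y) with hX2
  have hX2m : X2 ≤ m := sup_le hX1m (Submodule.span_le.2 (by simpa using hym))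
  have hstep2 : finrank k X1 + 1 ≤ finrank k X2 := by
    refine Submodule.finrank_lt_finrank_of_lt (lt_of_le_of_ne le_sup_left fun he => hy ?_)
    exact he.symm ▸ (le_sup_right : (k ∙ y) ≤ X2) (Submodule.mem_span_singleton_self y)
  have hX2d := Submodule.finrank_mono hX2m
  have hCA2d := Submodule.finrank_mono hCA2
  by_cases hP : finrank k CA = finrank k ↥(m * m)
  · -- the products are commutators
    have he : CA = m * m := Submodule.eq_of_le_of_finrank_le hCA2 hP.ge
    rw [he]
    refine hideal _ (hmm.trans hmA) (fun z hz w hw => ?_) fun z hz => hεCA z (he ▸ hz)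
    exact Submodule.mul_mem_mul (hmm hz) hw
  -- now the products exceed the commutators by one and two elements generate
  have hm2 : m ≤ X2 := by
    rcases eq_or_ne (finrank k m) (finrank k X2) with h | h
    · exact (Submodule.eq_of_le_of_finrank_le hX2m h.le).ge
    · omega
  have hP1 : finrank k ↥(m * m) ≤ finrank k CA + 1 := by omega
  have hexp : ∀ u ∈ m, ∃ a b : k, u - a • x - b • y ∈ m * m := by
    intro u hu
    obtain ⟨v, hv, w, hw, rfl⟩ := Submodule.mem_sup.1 (hm2 hu)
    obtain ⟨v', hv', w', hw', rfl⟩ := Submodule.mem_sup.1 hv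
    obtain ⟨a, rfl⟩ := Submodule.mem_span_singleton.1 hw'
    obtain ⟨b, rfl⟩ := Submodule.mem_span_singleton.1 hw
    exact ⟨a, b, by convert hv' using 1; abel⟩
  set z := x * y - y * x with hz
  set P3 : Submodule k B := m * m * m with hP3
  have hP3_2 : P3 ≤ m * m := mul_le_mul' hmm le_rfl
  have hP3l : ∀ u ∈ m, ∀ v ∈ m * m, u * v ∈ P3 := fun u hu v hv => by
    rw [hP3, mul_assoc]; exact Submodule.mul_mem_mul hu hv
  have hP3r : ∀ u ∈ m * m, ∀ v ∈ m, u * v ∈ P3 := fun u hu v hv => Submodule.mul_mem_mul hu hv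
  have hCA3 : CA ≤ (k ∙ z) ⊔ P3 := by
    refine Submodule.span_le.2 ?_
    rintro _ ⟨u, hu, v, hv, rfl⟩
    obtain ⟨r, hr⟩ := hdec u hu
    obtain ⟨s, hs⟩ := hdec v hv
    obtain ⟨a, b, hab⟩ := hexp _ hr
    obtain ⟨a', b', hab'⟩ := hexp _ hs
    set U := u - r • f with hU
    set V := v - s • f with hV
    set U' := U - a • x - b • y with hU'
    set V' := V - a' • x - b' • y with hV'
    have h : u * v - v * u = U * V - V * U := by
      obtain ⟨hfu, huf⟩ := hAfix u hu
      obtain ⟨hfv, hvf⟩ := hAfix v hv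
      simp only [hU, hV, sub_mul, mul_sub, smul_mul_assoc, mul_smul_comm, smul_sub, hfu, huf, hfv, hvf, hff]
      rw [smul_comm r s f]
      abel
    have h' : U * V - V * U = (a * b' - b * a') • z + ((U - U') * V' + U' * V -
        ((V - V') * U' + V' * U)) := by
      have e1 : U * V = (a • x + b • y) * (a' • x + b' • y) + ((U - U') * V' + U' * V) := by
        have e : a • x + b • y = U - U' := by rw [hU']; abel
        have e' : a' • x + b' • y = V - V' := by rw [hV']; abel
        rw [e, e']; simp only [sub_mul, mul_sub]; abel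
      have e2 : V * U = (a' • x + b' • y) * (a • x + b • y) + ((V - V') * U' + V' * U) := by
        have e : a • x + b • y = U - U' := by rw [hU']; abel
        have e' : a' • x + b' • y = V - V' := by rw [hV']; abel
        rw [e, e']; simp only [sub_mul, mul_sub]; abel
      rw [e1, e2, hz]
      simp only [mul_add, add_mul, smul_mul_assoc, mul_smul_comm]
      module
    rw [SetLike.mem_coe, h, h']
    refine Submodule.mem_sup.2 ⟨_, Submodule.smul_mem _ _ (Submodule.mem_span_singleton_self z), _, ?_, rfl⟩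
    have hU'm := hmm hab
    have hV'm := hmm hab'
    exact sub_mem (add_mem (hP3l _ (sub_mem hr hU'm) _ hab') (hP3r _ hab _ hs))
      (add_mem (hP3l _ (sub_mem hs hV'm) _ hab) (hP3r _ hab' _ hr))
  by_cases h3 : P3 ≤ CA
  · have hP30 : P3 = ⊥ := hideal _ (hP3_2.trans (hmm.trans hmA))
      (fun u hu v hv => hP3r _ (hP3_2 hu) _ hv) fun u hu => hεCA u (h3 hu)
    refine hideal _ (hCAm.trans hmA) (fun u hu v hv => ?_) hεCA
    have := hP3r _ (hCA2 hu) _ hv
    rw [hP30, Submodule.mem_bot] at this
    rw [this]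
    exact zero_mem _
  exfalso
  apply h3
  suffices hP30 : P3 = ⊥ by rw [hP30]; exact bot_le
  have hm2z : m * m ≤ (k ∙ z) ⊔ P3 := by
    have hlt : CA < CA ⊔ P3 := lt_of_le_of_ne le_sup_left fun he => h3 (he.symm ▸ le_sup_right)
    have := Submodule.finrank_lt_finrank_of_lt hlt
    have he : CA ⊔ P3 = m * m :=
      Submodule.eq_of_le_of_finrank_le (sup_le hCA2 hP3_2) (by omega)
    rw [← he]
    exact sup_le hCA3 le_sup_right
  have hμ : ∀ u ∈ m, ∀ v ∈ m, ∃ a : k, u * v - a • z ∈ P3 := by
    intro u hu v hv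
    obtain ⟨w, hw, w', hw', he⟩ := Submodule.mem_sup.1 (hm2z (Submodule.mul_mem_mul hu hv))
    obtain ⟨a, rfl⟩ := Submodule.mem_span_singleton.1 hw
    exact ⟨a, by rw [← he]; simpa using hw'⟩
  obtain ⟨a, ha⟩ := hμ x hxm x hxm
  obtain ⟨b, hb⟩ := hμ x hxm y hym
  obtain ⟨d, hd⟩ := hμ y hym y hym
  set P4 : Submodule k B := P3 * m with hP4
  refine hzero P3 (fun u hu => (hmm (hP3_2 hu)).2) ?_
  show P3 ≤ P4
  have hP4r : ∀ u ∈ P3, ∀ v ∈ m, u * v ∈ P4 := fun u hu v hv => Submodule.mul_mem_mul hu hv
  have hP4l : ∀ u ∈ m, ∀ v ∈ P3, u * v ∈ P4 := fun u hu v hv => by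
    have e : P4 = m * P3 := by simp only [hP4, hP3, mul_assoc]
    rw [e]; exact Submodule.mul_mem_mul hu hv
  let q : B →ₗ[k] B ⧸ P4 := P4.mkQ
  have hq : ∀ u v : B, u - v ∈ P4 → q u = q v := fun u v h => (Submodule.Quotient.eq _).2 h
  have hc' : y * x - (b - 1) • z ∈ P3 := by
    have e : y * x - (b - 1) • z = x * y - b • z := by rw [hz, sub_smul, one_smul]; abel
    rw [e]; exact hb
  have hL : ∀ {u v : B} {μ : k} (w : B), w ∈ m → u * v - μ • z ∈ P3 →
      q (u * v * w) = μ • q (z * w) := by
    intro u v μ w hw h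
    rw [← map_smul]
    refine hq _ _ ?_
    rw [← smul_mul_assoc, ← sub_mul]
    exact hP4r _ h _ hw
  have hR : ∀ {u v : B} {μ : k} (w : B), w ∈ m → u * v - μ • z ∈ P3 →
      q (w * (u * v)) = μ • q (w * z) := by
    intro u v μ w hw h
    rw [← map_smul]
    refine hq _ _ ?_
    rw [← mul_smul_comm, ← mul_sub]
    exact hP4l _ hw _ h
  set Lx := q (z * x)
  set Ly := q (z * y)
  set Rx := q (x * z)
  set Ry := q (y * z)
  have e1 : a • Lx = a • Rx := by rw [← hL x hxm ha, ← hR x hxm ha, mul_assoc]
  have e2 : a • Ly = b • Rx := by rw [← hL y hym ha, ← hR x hxm hb, mul_assoc]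
  have e3 : b • Lx = (b - 1) • Rx := by rw [← hL x hxm hb, ← hR x hxm hc', mul_assoc]
  have e4 : b • Ly = d • Rx := by rw [← hL y hym hb, ← hR x hxm hd, mul_assoc]
  have e5 : (b - 1) • Lx = a • Ry := by rw [← hL x hxm hc', ← hR y hym ha, mul_assoc]
  have e6 : (b - 1) • Ly = b • Ry := by rw [← hL y hym hc', ← hR y hym hb, mul_assoc]
  have e7 : d • Lx = (b - 1) • Ry := by rw [← hL x hxm hd, ← hR y hym hc', mul_assoc]
  have e8 : d • Ly = d • Ry := by rw [← hL y hym hd, ← hR y hym hd, mul_assoc]
  have hLL : Lx = 0 ∧ Ly = 0 := by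
    by_cases ha0 : a = 0
    · by_cases hd0 : d = 0
      · rw [ha0, zero_smul] at e2 e5
        rw [hd0, zero_smul] at e4 e7
        by_cases hb0 : b = 0
        · rw [hb0] at e3 e5 e6
          simp only [zero_sub, neg_smul, one_smul, zero_smul, neg_eq_zero] at e5 e6
          exact ⟨e5, e6⟩
        · have hRx : Rx = 0 := (smul_eq_zero.1 e2.symm).resolve_left hb0
          rw [hRx, smul_zero] at e3
          exact ⟨(smul_eq_zero.1 e3).resolve_left hb0, (smul_eq_zero.1 e4).resolve_left hb0⟩
      · have hLy : Ly = Ry := smul_right_injective _ hd0 e8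
        have hLy0 : Ly = 0 := by
          rw [← hLy, sub_smul, one_smul, sub_eq_self] at e6
          exact e6
        rw [← hLy, hLy0, smul_zero] at e7
        exact ⟨(smul_eq_zero.1 e7).resolve_left hd0, hLy0⟩
    · have hLx : Lx = Rx := smul_right_injective _ ha0 e1
      have hLx0 : Lx = 0 := by
        rw [← hLx, sub_smul, one_smul, eq_comm, sub_eq_self] at e3
        exact e3
      rw [← hLx, hLx0, smul_zero] at e2
      exact ⟨hLx0, (smul_eq_zero.1 e2).resolve_left ha0⟩
  have hzm : ∀ w ∈ m, z * w ∈ P4 := by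
    intro w hw
    obtain ⟨α, β, hαβ⟩ := hexp w hw
    have e : z * w = α • (z * x) + β • (z * y) + z * (w - α • x - β • y) := by
      simp only [mul_sub, mul_smul_comm]; abel
    have hzm2 : z ∈ m * m :=
      sub_mem (Submodule.mul_mem_mul hxm hym) (Submodule.mul_mem_mul hym hxm)
    rw [e]
    refine add_mem (add_mem (P4.smul_mem _ ((Submodule.Quotient.mk_eq_zero _).1 hLL.1))
      (P4.smul_mem _ ((Submodule.Quotient.mk_eq_zero _).1 hLL.2))) ?_
    have h5 : z * (w - α • x - β • y) ∈ m * m * (m * m) := Submodule.mul_mem_mul hzm2 hαβ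
    rwa [← mul_assoc (m * m) m m] at h5
  refine Submodule.mul_le.2 fun u hu w hw => ?_
  obtain ⟨v, hv, v', hv', rfl⟩ := Submodule.mem_sup.1 (hm2z hu)
  obtain ⟨r, rfl⟩ := Submodule.mem_span_singleton.1 hv
  rw [add_mul, smul_mul_assoc]
  exact add_mem (P4.smul_mem r (hzm w hw)) (hP4r _ hv' _ hw)

end CfsgLib.BrauerCharacters
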