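import Cfsg.Agent.Lib.PermGroups.PModule
import Mathlib.LinearAlgebra.Dual.Lemmas
import Mathlib.RepresentationTheory.Basic
import Mathlib.GroupTheory.Index

/-!
# The dimension of a one-sided ideal generated by an idempotent

In characteristic `p` the left ideal of an idempotent of the group algebra has dimension
divisible by the order of every `p`-subgroup.
-/

set_option autoImplicit false
set_option linter.unusedSectionVars false
set_option linter.style.haveILetI false

namespace CfsgLib.BrauerCharacters

open MonoidAlgebra Module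

variable {K : Type*} [Field K] {G : Type*} [Group G] [Finite G]

/-- Left translation by the members of a subgroup. -/
noncomputable def leftTrans (P : Subgroup G) : Representation K P (MonoidAlgebra K G) where
  toFun u := LinearMap.mulLeft K (single (u : G) 1)
  map_one' := LinearMap.ext fun x => by simp [← one_def]
  map_mul' u v := LinearMap.ext fun x => by
    simp [← mul_assoc, single_mul_single]

theorem leftTrans_apply (P : Subgroup G) (u : P) (x : MonoidAlgebra K G) :
    leftTrans (K := K) P u x = single (u : G) 1 * x := rfl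

/-- The span of the differences `u x - x`. -/
noncomputable def diffSpan (P : Subgroup G) (X : Submodule K (MonoidAlgebra K G)) :
    Submodule K (MonoidAlgebra K G) :=
  Submodule.span K {z | ∃ u : P, ∃ x ∈ X, z = leftTrans P u x - x}

/-- The dimension of the left ideal of an idempotent is a multiple of the order of a
`p`-subgroup. -/
theorem card_dvd_finrank_range_mulRight {p : ℕ} [Fact p.Prime] [CharP K p] (P : Subgroup G)
    (hP : IsPGroup p P) {F : MonoidAlgebra K G} (hF : F * F = F) :
    Nat.card P ∣ finrank K (LinearMap.range (LinearMap.mulRight K F)) := by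
  classical
  haveI := Fintype.ofFinite G
  haveI := Fintype.ofFinite P
  haveI : FiniteDimensional K (MonoidAlgebra K G) :=
    Module.Finite.of_basis (MonoidAlgebra.basis G K)
  have hA : finrank K (MonoidAlgebra K G) = Nat.card G := by
    rw [Module.finrank_eq_card_basis (MonoidAlgebra.basis G K), Nat.card_eq_fintype_card]
  -- the two one-sided ideals
  set V := LinearMap.range (LinearMap.mulRight K F) with hV
  set V' := LinearMap.range (LinearMap.mulRight K (1 - F)) with hV'
  have hVfix : ∀ x ∈ V, x * F = x := by
    rintro _ ⟨y, rfl⟩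
    simp [mul_assoc, hF]
  have hV'fix : ∀ x ∈ V', x * F = 0 := by
    rintro _ ⟨y, rfl⟩
    simp [mul_assoc, sub_mul, hF]
  have hsup : V ⊔ V' = ⊤ := by
    rw [eq_top_iff]
    intro x _
    exact Submodule.mem_sup.2 ⟨x * F, ⟨x, rfl⟩, x * (1 - F), ⟨x, rfl⟩, by simp [mul_sub]⟩
  have hinf : V ⊓ V' = ⊥ := by
    rw [eq_bot_iff]
    intro x hx
    rw [Submodule.mem_bot, ← hVfix x hx.1, hV'fix x hx.2]
  have hdim : finrank K V + finrank K V' = Nat.card G := by
    rw [← Submodule.finrank_sup_add_finrank_inf_eq, hsup, hinf, finrank_bot, finrank_top, hA,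
      add_zero]
  have hstab : ∀ (E : MonoidAlgebra K G), ∀ u : P, ∀ x ∈ LinearMap.range (LinearMap.mulRight K E),
      leftTrans P u x ∈ LinearMap.range (LinearMap.mulRight K E) := by
    rintro E u _ ⟨y, rfl⟩
    exact ⟨single (u : G) 1 * y, by simp [leftTrans_apply, mul_assoc]⟩
  -- bound by translates of a complement
  have hbound : ∀ (X Y : Submodule K (MonoidAlgebra K G)), X ⊔ Y = ⊤ →
      (∀ u : P, ∀ x ∈ X, leftTrans P u x ∈ X) → (∀ u : P, ∀ x ∈ Y, leftTrans P u x ∈ Y) →
      finrank K (MonoidAlgebra K G) + Nat.card P * finrank K (diffSpan P X) ≤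
        Nat.card P * finrank K X + finrank K Y := by
    intro X Y hXY hX hY
    have hDX : diffSpan P X ≤ X := Submodule.span_le.2 fun z ⟨u, x, hx, hz⟩ =>
      hz ▸ sub_mem (hX u x hx) hx
    obtain ⟨C, hC⟩ := (diffSpan P X).exists_isCompl
    set W := C ⊓ X with hW
    have hWX : diffSpan P X ⊔ W = X := by
      rw [hW, ← sup_inf_assoc_of_le C hDX, hC.sup_eq_top, top_inf_eq]
    have hWd : finrank K (diffSpan P X) + finrank K W = finrank K X := by
      have h := Submodule.finrank_sup_add_finrank_inf_eq (diffSpan P X) W
      rw [hWX, disjoint_iff.1 (hC.disjoint.mono_right inf_le_left), finrank_bot, add_zero] at h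
      exact h.symm
    let Φ : (P → W) →ₗ[K] MonoidAlgebra K G :=
      ∑ u : P, ((leftTrans P u).comp W.subtype).comp (LinearMap.proj u)
    have hΦ : ∀ f, Φ f = ∑ u : P, leftTrans P u (f u : MonoidAlgebra K G) := fun f => by
      simp [Φ, LinearMap.sum_apply]
    have hΦd : finrank K (LinearMap.range Φ) ≤ Nat.card P * finrank K W := by
      refine Φ.finrank_range_le.trans (le_of_eq ?_)
      rw [Module.finrank_pi_fintype]
      simp [Nat.card_eq_fintype_card]
    have hRinv : ∀ u : P, ∀ x ∈ LinearMap.range Φ, leftTrans P u x ∈ LinearMap.range Φ := by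
      rintro u _ ⟨f, rfl⟩
      refine ⟨fun v => f (u⁻¹ * v), ?_⟩
      rw [hΦ, hΦ, map_sum]
      refine Fintype.sum_equiv (Equiv.mulLeft u⁻¹) _ _ fun v => ?_
      rw [Equiv.coe_mulLeft, ← Module.End.mul_apply, ← map_mul, mul_inv_cancel_left]
    have hWR : W ≤ LinearMap.range Φ := fun w hw =>
      ⟨Pi.single 1 ⟨w, hw⟩, by
        rw [hΦ, Finset.sum_eq_single 1]
        · simp
        · intro u _ hu
          simp [hu]
        · simp⟩
    have htop : LinearMap.range Φ ⊔ Y = ⊤ := by
      by_contra h
      have hne : (LinearMap.range Φ ⊔ Y).dualAnnihilator ≠ ⊥ := fun h' =>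
        h (Subspace.dualAnnihilator_inj.1 (h'.trans Submodule.dualAnnihilator_top.symm))
      have hinv : ∀ u, ∀ mu ∈ (LinearMap.range Φ ⊔ Y).dualAnnihilator,
          (leftTrans (K := K) P).dual u mu ∈ (LinearMap.range Φ ⊔ Y).dualAnnihilator := by
        intro u mu hmu
        rw [Submodule.mem_dualAnnihilator] at hmu ⊢
        intro y hy
        rw [Representation.dual_apply, Module.Dual.transpose_apply, LinearMap.comp_apply]
        obtain ⟨y1, h1, y2, h2, rfl⟩ := Submodule.mem_sup.1 hy
        rw [map_add]
        exact hmu _ (add_mem (Submodule.mem_sup_left (hRinv _ _ h1))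
          (Submodule.mem_sup_right (hY _ _ h2)))
      obtain ⟨lam, hl, hl0, hfix⟩ := CfsgLib.PermGroups.exists_ne_zero_fixed_of_isPGroup hP
        (leftTrans (K := K) P).dual (LinearMap.range Φ ⊔ Y).dualAnnihilator hinv hne
      refine hl0 (LinearMap.ext fun x => ?_)
      rw [Submodule.mem_dualAnnihilator] at hl
      obtain ⟨x1, hx1, x2, hx2, rfl⟩ :=
        Submodule.mem_sup.1 (hXY.ge (Submodule.mem_top : x ∈ ⊤))
      rw [map_add, hl x2 (Submodule.mem_sup_right hx2), add_zero, LinearMap.zero_apply]
      obtain ⟨d, hd, w, hw, rfl⟩ := Submodule.mem_sup.1 (hWX.ge hx1)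
      rw [map_add, hl w (Submodule.mem_sup_left (hWR hw)), add_zero]
      have : diffSpan P X ≤ LinearMap.ker lam := Submodule.span_le.2 fun z ⟨u, y, _, hz⟩ => by
        rw [SetLike.mem_coe, LinearMap.mem_ker, hz, map_sub, sub_eq_zero]
        conv_rhs => rw [← hfix u⁻¹]
        simp [Representation.dual_apply, Module.Dual.transpose_apply]
      exact this hd
    have h1 := Submodule.finrank_add_le_finrank_add_finrank (LinearMap.range Φ) Y
    rw [htop, finrank_top] at h1
    have h2 : Nat.card P * finrank K (diffSpan P X) + Nat.card P * finrank K W =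
        Nat.card P * finrank K X := by rw [← mul_add, hWd]
    omega
  have h1 := hbound V V' hsup (hstab F) (hstab (1 - F))
  have h2 := hbound V' V (sup_comm V V' ▸ hsup) (hstab (1 - F)) (hstab F)
  -- the augmentation part of the whole algebra
  set D := diffSpan (K := K) P ⊤ with hD
  have hDle : D ≤ diffSpan P V ⊔ diffSpan P V' := Submodule.span_le.2 fun z ⟨u, x, _, hz⟩ => by
    refine Submodule.mem_sup.2 ⟨_, Submodule.subset_span ⟨u, x * F, ⟨x, rfl⟩, rfl⟩, _,
      Submodule.subset_span ⟨u, x * (1 - F), ⟨x, rfl⟩, rfl⟩, ?_⟩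
    rw [hz]
    simp only [leftTrans_apply, mul_sub, mul_one, ← mul_assoc]
    abel
  let reps : Quotient (QuotientGroup.rightRel P) → MonoidAlgebra K G := fun c => single c.out 1
  have hDtop : D ⊔ Submodule.span K (Set.range reps) = ⊤ := by
    rw [eq_top_iff, ← (MonoidAlgebra.basis G K).span_eq, Submodule.span_le]
    rintro _ ⟨g, rfl⟩
    have hr : (Quotient.mk (QuotientGroup.rightRel P) g).out * g⁻¹ ∈ P := by
      have h := Quotient.exact (Quotient.out_eq (Quotient.mk (QuotientGroup.rightRel P) g))
      rw [← QuotientGroup.rightRel_apply]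
      exact Setoid.symm' _ h
    refine Submodule.mem_sup.2 ⟨-(leftTrans P ⟨_, hr⟩ (single g 1) - single g 1),
      neg_mem (Submodule.subset_span ⟨_, _, trivial, rfl⟩),
      reps (Quotient.mk _ g), Submodule.subset_span ⟨_, rfl⟩, ?_⟩
    simp [reps, leftTrans_apply, single_mul_single]
  have hspan : finrank K (Submodule.span K (Set.range reps)) ≤ P.index := by
    haveI : Fintype (Quotient (QuotientGroup.rightRel P)) := Fintype.ofFinite _
    refine (finrank_span_le_card (R := K) (Set.range reps)).trans ?_
    rw [Set.toFinset_range]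
    refine Finset.card_image_le.trans (le_of_eq ?_)
    rw [Finset.card_univ, ← Nat.card_eq_fintype_card, Subgroup.index]
    exact Nat.card_congr (QuotientGroup.quotientRightRelEquivQuotientLeftRel P)
  have h3 := Submodule.finrank_add_le_finrank_add_finrank D (Submodule.span K (Set.range reps))
  rw [hDtop, finrank_top, hA] at h3
  have h4 := (Submodule.finrank_mono hDle).trans
    (Submodule.finrank_add_le_finrank_add_finrank _ _)
  rw [hA] at h1 h2
  have hidx := P.card_mul_index
  set c := Nat.card P
  have h5 : c * Nat.card G ≤ c * finrank K (diffSpan P V) + c * finrank K (diffSpan P V') +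
      Nat.card G := by
    rw [← hidx, ← mul_add, ← mul_add]
    refine Nat.mul_le_mul_left c ?_
    rw [hidx]
    omega
  -- so the first bound is sharp
  have hd : c * finrank K (diffSpan P V) + finrank K V = c * finrank K V := by
    have : c * finrank K V + c * finrank K V' = c * Nat.card G := by rw [← mul_add, hdim]
    omega
  exact (Nat.dvd_add_right (dvd_mul_right c _)).1 (hd ▸ dvd_mul_right c _)

end CfsgLib.BrauerCharacters
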