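import Cfsg.Agent.Lib.BrauerCharacters.BlockAlgebra
import Cfsg.Agent.Lib.BrauerCharacters.LocalCorner
import Cfsg.Agent.Lib.BrauerCharacters.ProjectiveDim
import Cfsg.Agent.Lib.Blocks.Sections
import Cfsg.Agent.S4675

/-!
# The block algebra of a block of rank one

A block of rank one has one simple module; with at most four characters its algebra is a matrix
algebra over a commutative algebra whose dimension is the number of characters.
-/

set_option autoImplicit false
set_option linter.unusedSectionVars false
set_option linter.style.haveILetI false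

namespace CfsgLib.BrauerCharacters

open Cfsg CfsgLib.CharTheory CfsgLib.Blocks MonoidAlgebra Module
open scoped Matrix

section AnnIdeal

variable {K : Type*} [Field K] {G : Type*} [Group G] [Fintype G]

/-- The annihilator of an element, as a left ideal. -/
noncomputable def annIdeal (e : MonoidAlgebra K G) : Ideal (MonoidAlgebra K G) where
  carrier := {x | x * e = 0}
  add_mem' := fun {a b} (ha : a * e = 0) (hb : b * e = 0) =>
    show (a + b) * e = 0 by rw [add_mul, ha, hb, add_zero]
  zero_mem' := zero_mul e
  smul_mem' := fun c x (hx : x * e = 0) =>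
    show c * x * e = 0 by rw [mul_assoc, hx, mul_zero]

theorem mem_annIdeal {e x : MonoidAlgebra K G} : x ∈ annIdeal e ↔ x * e = 0 := Iff.rfl

theorem isTwoSided_annIdeal {e : MonoidAlgebra K G} (he : IsClassElem e) :
    (annIdeal e).IsTwoSided :=
  ⟨fun {a} b (ha : a * e = 0) =>
    show a * b * e = 0 by rw [mul_assoc, (he.commute b).eq, ← mul_assoc, ha, zero_mul]⟩

variable {e : MonoidAlgebra K G} [(annIdeal e).IsTwoSided]

/-- The map onto the algebra cut out by `e`. -/
noncomputable def annMap (e : MonoidAlgebra K G) [(annIdeal e).IsTwoSided] :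
    MonoidAlgebra K G →ₐ[K] MonoidAlgebra K G ⧸ annIdeal e :=
  Ideal.Quotient.mkₐ K (annIdeal e)

theorem annMap_surjective : Function.Surjective (annMap e) :=
  Ideal.Quotient.mkₐ_surjective _ _

theorem annMap_eq_zero {a : MonoidAlgebra K G} : annMap e a = 0 ↔ a * e = 0 :=
  Ideal.Quotient.eq_zero_iff_mem

theorem annMap_eq_iff {a b : MonoidAlgebra K G} : annMap e a = annMap e b ↔ a * e = b * e := by
  rw [← sub_eq_zero, ← map_sub, annMap_eq_zero, sub_mul, sub_eq_zero]

theorem annMap_mul_self (hee : e * e = e) (a : MonoidAlgebra K G) :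
    annMap e (a * e) = annMap e a := by
  rw [annMap_eq_iff, mul_assoc, hee]

theorem single_one_mul_eq_sum (g : G) (a : MonoidAlgebra K G) :
    single g (1 : K) * a = ∑ h : G, a.coeff h • single (g * h) 1 := by
  classical
  refine MonoidAlgebra.ext (Finsupp.ext fun x => ?_)
  rw [coeff_single_mul_apply, one_mul, coeff_finsetSum_apply,
    Finset.sum_eq_single (g⁻¹ * x)]
  · simp
  · intro h _ hh
    have : g * h ≠ x := fun hx => hh (by rw [← hx]; group)
    simp [this]
  · simp

theorem finiteDimensional_annQuot : FiniteDimensional K (MonoidAlgebra K G ⧸ annIdeal e) := by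
  haveI : FiniteDimensional K (MonoidAlgebra K G) :=
    Module.Finite.of_basis (MonoidAlgebra.basis G K)
  exact Module.Finite.of_surjective (annMap e).toLinearMap annMap_surjective

theorem finrank_annQuot :
    finrank K (MonoidAlgebra K G ⧸ annIdeal e) =
      finrank K (LinearMap.range (regMat e).mulVecLin) := by
  haveI : FiniteDimensional K (MonoidAlgebra K G) :=
    Module.Finite.of_basis (MonoidAlgebra.basis G K)
  let cf : MonoidAlgebra K G ≃ₗ[K] (G → K) := (MonoidAlgebra.basis G K).equivFun
  have hcf : ∀ a g, cf a g = a.coeff g := fun a g => rfl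
  let Θ : MonoidAlgebra K G →ₗ[K] (G → K) := cf.toLinearMap.comp (LinearMap.mulRight K e)
  have key : Θ = (regMat e).mulVecLin.comp cf.toLinearMap := by
    refine LinearMap.ext fun a => funext fun g => ?_
    simp only [Θ, LinearMap.comp_apply, LinearEquiv.coe_coe, LinearMap.mulRight_apply,
      Matrix.mulVecLin_apply, hcf, regMat_mulVec]
    rw [show ofFun (cf a) = a from MonoidAlgebra.ext (Finsupp.ext fun x => rfl)]
  have hker : LinearMap.ker Θ = LinearMap.ker (annMap e).toLinearMap := by
    ext a
    simp only [Θ, LinearMap.mem_ker, LinearMap.comp_apply, LinearEquiv.coe_coe,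
      LinearEquiv.map_eq_zero_iff, LinearMap.mulRight_apply, AlgHom.toLinearMap_apply,
      annMap_eq_zero]
  have hr : LinearMap.range Θ = LinearMap.range (regMat e).mulVecLin := by
    rw [key, LinearMap.range_comp, LinearEquiv.range, Submodule.map_top]
  have h1 := LinearMap.finrank_range_add_finrank_ker Θ
  have h2 := LinearMap.finrank_range_add_finrank_ker (annMap e).toLinearMap
  rw [LinearMap.range_eq_top.2 annMap_surjective, finrank_top, ← hker] at h2
  rw [← hr]
  omega

variable (he : IsClassElem e) (hee : e * e = e)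
include he hee

/-- A trace function gives a fixed function of classes. -/
theorem clsMat_mulVec_trace [Fintype (ConjClasses G)]
    (τ : (MonoidAlgebra K G ⧸ annIdeal e) →ₗ[K] K) (hτ : ∀ x y, τ (x * y) = τ (y * x)) :
    (∀ g, τ (annMap e (single (ConjClasses.mk g).out 1)) = τ (annMap e (single g 1))) ∧
      clsMat e *ᵥ (fun c => τ (annMap e (single c.out 1))) =
        fun c => τ (annMap e (single c.out 1)) := by
  have hcl : ∀ g, τ (annMap e (single (ConjClasses.mk g).out 1)) =
      τ (annMap e (single g 1)) := by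
    intro g
    obtain ⟨a, ha⟩ := isConj_iff.1 (ConjClasses.mk_eq_mk_iff_isConj.1
      (Quotient.out_eq (ConjClasses.mk g)) : IsConj (ConjClasses.mk g).out g)
    conv_rhs => rw [← ha]
    generalize (ConjClasses.mk g).out = w
    have h := hτ (annMap e (single a 1)) (annMap e (single (w * a⁻¹) 1))
    rw [← map_mul, ← map_mul, single_mul_single, single_mul_single, mul_one,
      inv_mul_cancel_right, ← mul_assoc] at h
    exact h.symm
  refine ⟨hcl, funext fun c => ?_⟩
  induction c using Quotient.inductionOn with
  | h g =>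
    show (clsMat e *ᵥ fun c => τ (annMap e (single c.out 1))) (ConjClasses.mk g) =
      τ (annMap e (single (ConjClasses.mk g).out 1))
    rw [clsMat_mulVec he, hcl g]
    conv_rhs => rw [← annMap_mul_self hee, single_one_mul_eq_sum]
    simp only [map_sum, map_smul, smul_eq_mul, hcl]

theorem finrank_annQuot_comm [Fintype (ConjClasses G)] :
    finrank K ((MonoidAlgebra K G ⧸ annIdeal e) ⧸ commSpan K (MonoidAlgebra K G ⧸ annIdeal e)) =
      finrank K (LinearMap.range (clsMat e).mulVecLin) := by
  classical
  haveI := finiteDimensional_annQuot (e := e)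
  set V := LinearMap.range (clsMat e).mulVecLin
  set Cs := commSpan K (MonoidAlgebra K G ⧸ annIdeal e) with hCs
  have htr : ∀ τ : Module.Dual K ((MonoidAlgebra K G ⧸ annIdeal e) ⧸ Cs), ∀ x y,
      (τ.comp Cs.mkQ) (x * y) = (τ.comp Cs.mkQ) (y * x) := fun τ x y => by
    rw [← sub_eq_zero, ← map_sub, LinearMap.comp_apply, Submodule.mkQ_apply,
      (Submodule.Quotient.mk_eq_zero _).2 (comm_mem_commSpan x y), map_zero]
  let res : Module.Dual K ((MonoidAlgebra K G ⧸ annIdeal e) ⧸ Cs) →ₗ[K] (ConjClasses G → K) :=
    LinearMap.pi fun c => LinearMap.applyₗ (Cs.mkQ (annMap e (single c.out 1)))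
  have hres' : ∀ τ g, res τ (ConjClasses.mk g) = τ (Cs.mkQ (annMap e (single g 1))) := fun τ g =>
    (clsMat_mulVec_trace he hee _ (htr τ)).1 g
  have hresV : LinearMap.range res ≤ V := by
    rintro _ ⟨τ, rfl⟩
    exact ⟨res τ, (clsMat_mulVec_trace he hee _ (htr τ)).2⟩
  have hresinj : Function.Injective res := by
    rw [← LinearMap.ker_eq_bot, Submodule.eq_bot_iff]
    intro τ hτ
    have hz : ∀ a, τ (Cs.mkQ (annMap e a)) = 0 := by
      intro a
      induction a using MonoidAlgebra.induction_linear with
      | zero => simp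
      | add x y hx hy => simp only [map_add, hx, hy, add_zero]
      | single g c =>
        rw [show single g c = c • single g (1 : K) by rw [smul_single', mul_one], map_smul,
          map_smul, map_smul, ← hres', LinearMap.mem_ker.1 hτ, Pi.zero_apply, smul_zero]
    refine LinearMap.ext fun z => ?_
    induction z using Submodule.Quotient.induction_on with
    | _ z =>
      obtain ⟨a, rfl⟩ := annMap_surjective z
      exact hz a
  let ev : (ConjClasses G → K) →ₗ[K] (MonoidAlgebra K G →ₗ[K] K) :=
    { toFun := fun φ => (MonoidAlgebra.basis G K).constr K fun g => φ (ConjClasses.mk g)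
      map_add' := fun a b => (MonoidAlgebra.basis G K).ext fun g => by
        simp [mul_add, Finset.sum_add_distrib]
      map_smul' := fun a b => (MonoidAlgebra.basis G K).ext fun g => by
        simp [Finset.mul_sum, mul_left_comm] }
  have hev : ∀ φ g c, ev φ (single g c) = c * φ (ConjClasses.mk g) := by
    intro φ g c
    have h1 : ev φ (MonoidAlgebra.basis G K g) = φ (ConjClasses.mk g) :=
      (MonoidAlgebra.basis G K).constr_basis K _ g
    rw [MonoidAlgebra.basis_apply] at h1
    rw [show single g c = c • single g (1 : K) by rw [smul_single', mul_one], map_smul, h1,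
      smul_eq_mul]
  have hsurjres : V ≤ LinearMap.range res := by
    intro φ hφ
    have hVfix : ∀ g, ∑ h : G, e.coeff h * φ (ConjClasses.mk (g * h)) =
        φ (ConjClasses.mk g) := by
      intro g
      obtain ⟨ψ, rfl⟩ := hφ
      rw [← clsMat_mulVec he]
      simp only [Matrix.mulVecLin_apply, Matrix.mulVec_mulVec, clsMat_mul_self he hee]
    have hkill : ∀ a, ev φ (a * e) = ev φ a := by
      intro a
      induction a using MonoidAlgebra.induction_linear with
      | zero => simp
      | add x y hx hy => rw [add_mul, map_add, map_add, hx, hy]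
      | single g c =>
        rw [hev, ← hVfix g, Finset.mul_sum,
          show single g c = c • single g (1 : K) by rw [smul_single', mul_one], smul_mul_assoc,
          single_one_mul_eq_sum, map_smul, map_sum, Finset.smul_sum]
        simp [hev]
    have hI : (annIdeal e).restrictScalars K ≤ LinearMap.ker (ev φ) := fun a ha => by
      rw [LinearMap.mem_ker, ← hkill a, show a * e = 0 from ha, map_zero]
    let τ0 : (MonoidAlgebra K G ⧸ annIdeal e) →ₗ[K] K :=
      (((annIdeal e).restrictScalars K).liftQ (ev φ) hI).comp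
        (Submodule.Quotient.restrictScalarsEquiv K (annIdeal e)).symm.toLinearMap
    have hτ0 : ∀ a, τ0 (annMap e a) = ev φ a := fun a => rfl
    have htr : ∀ a b, ev φ (a * b) = ev φ (b * a) := by
      intro a b
      induction a using MonoidAlgebra.induction_linear with
      | zero => simp
      | add x y hx hy => rw [add_mul, mul_add, map_add, map_add, hx, hy]
      | single g c =>
        induction b using MonoidAlgebra.induction_linear with
        | zero => simp
        | add x y hx hy => rw [add_mul, mul_add, map_add, map_add, hx, hy]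
        | single h d =>
          rw [single_mul_single, single_mul_single, hev, hev, mul_comm c d]
          congr 2
          exact ConjClasses.mk_eq_mk_iff_isConj.2 (isConj_iff.2 ⟨h, by group⟩)
    have hC : Cs ≤ LinearMap.ker τ0 := commSpan_le_ker τ0 fun x y => by
      obtain ⟨a, rfl⟩ := annMap_surjective x
      obtain ⟨b, rfl⟩ := annMap_surjective y
      rw [← map_mul, ← map_mul, hτ0, hτ0, htr]
    refine ⟨Cs.liftQ τ0 hC, funext fun c => ?_⟩
    show Cs.liftQ τ0 hC (Cs.mkQ (annMap e (single c.out 1))) = φ c
    rw [Submodule.mkQ_apply, Submodule.liftQ_apply, hτ0, hev, one_mul]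
    exact congrArg φ (Quotient.out_eq c)
  rw [← Subspace.dual_finrank_eq, ← le_antisymm hresV hsurjres,
    LinearMap.finrank_range_of_inj hresinj]

theorem exists_symm_form : ∃ ε : (MonoidAlgebra K G ⧸ annIdeal e) →ₗ[K] K,
    (∀ x y, ε (x * y) = ε (y * x)) ∧ ∀ x, (∀ y, ε (x * y) = 0) → x = 0 := by
  let ε0 : MonoidAlgebra K G →ₗ[K] K :=
    ((Finsupp.lapply 1).comp (MonoidAlgebra.coeffLinearEquiv K).toLinearMap).comp
      (LinearMap.mulRight K e)
  have hε0 : ∀ a, ε0 a = (a * e).coeff 1 := fun a => rfl
  have hεI : (annIdeal e).restrictScalars K ≤ LinearMap.ker ε0 := fun a ha => by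
    rw [LinearMap.mem_ker, hε0, show a * e = 0 from ha]; rfl
  let ε : (MonoidAlgebra K G ⧸ annIdeal e) →ₗ[K] K :=
    (((annIdeal e).restrictScalars K).liftQ ε0 hεI).comp
      (Submodule.Quotient.restrictScalarsEquiv K (annIdeal e)).symm.toLinearMap
  have hε : ∀ a, ε (annMap e a) = (a * e).coeff 1 := fun a => rfl
  refine ⟨ε, fun x y => ?_, fun x hx => ?_⟩
  · obtain ⟨a, rfl⟩ := annMap_surjective x
    obtain ⟨b, rfl⟩ := annMap_surjective y
    rw [← map_mul, ← map_mul, hε, hε, mul_assoc a b e, mul_assoc b a e, (he.commute a).eq,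
      ← mul_assoc b, coeff_mul_eq_sum a, coeff_mul_eq_sum (b * e) a]
    exact Fintype.sum_equiv (Equiv.inv G) _ _ fun g => by simp [mul_comm]
  · obtain ⟨a, rfl⟩ := annMap_surjective x
    rw [annMap_eq_zero]
    refine MonoidAlgebra.ext (Finsupp.ext fun g => ?_)
    have h := hx (annMap e (single g⁻¹ 1))
    rw [← map_mul, hε, mul_assoc, (he.commute _).eq, ← mul_assoc, coeff_mul_single_apply,
      mul_one, inv_inv, one_mul] at h
    exact h

end AnnIdeal

variable {G : Type*} [Group G] [Fintype G] {p : ℕ} [Fact p.Prime] {M : Ideal AlgInt}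
  {B : Set (IrrCharacter G)}

/-- A matrix representation in characteristic `p` has equal traces at an element and at its
`p`-regular part. -/
theorem trace_mul_eq_of_commute {K : Type*} [Field K] [CharP K p] {d : ℕ}
    (ρ : G →* Matrix (Fin d) (Fin d) K) {x y : G} (hc : Commute x y)
    (hx : ∃ j : ℕ, orderOf x = p ^ j) : (ρ (x * y)).trace = (ρ y).trace := by
  rcases Nat.eq_zero_or_pos d with rfl | hd
  · simp [Matrix.trace]
  haveI : Nonempty (Fin d) := ⟨⟨0, hd⟩⟩
  obtain ⟨j, hj⟩ := hx
  have hnil : IsNilpotent (ρ x - 1) := ⟨p ^ j, by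
    haveI : CharP (Matrix (Fin d) (Fin d) K) p := inferInstance
    rw [sub_pow_char_pow_of_commute _ _ (Commute.one_right _), one_pow, ← map_pow, ← hj,
      pow_orderOf_eq_one, map_one, sub_self]⟩
  have hcm : Commute (ρ x - 1) (ρ y) := (hc.map ρ).sub_left (Commute.one_left _)
  have h := (Matrix.isNilpotent_trace_of_isNilpotent (hcm.isNilpotent_mul_right hnil)).eq_zero
  rw [sub_mul, one_mul, ← map_mul, Matrix.trace_sub, sub_eq_zero] at h
  exact h

/-- For a block of rank one with at most four characters, the sum of the squares of the degrees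
is the number of characters times a square `n ^ 2`, and every `p`-subgroup has order dividing
that number times `n`. -/
theorem exists_square_of_blockRank_one (hM : IsPModular p M) (hB : IsPBlock M B)
    (hl : blockRank p B = 1) (hk : Nat.card B ≤ 4) :
    ∃ n : ℕ, ∑ᶠ χ ∈ B, ((charDegree (χ : G → ℂ) : ℂ)) ^ 2 = (Nat.card B : ℂ) * (n : ℂ) ^ 2 ∧
      ∀ P : Subgroup G, IsPGroup p P → Nat.card P ∣ Nat.card B * n := by
  classical
  haveI : M.IsMaximal := hM.2.1
  haveI : M.IsPrime := isPrime_of_isPModular hM
  haveI := isAlgClosed_res (M := M)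
  haveI := charP_res (M := M) hM
  haveI := Fintype.ofFinite (ConjClasses G)
  haveI := Fintype.ofFinite (IrrCharacter G)
  set eR : MonoidAlgebra (locRing M) G :=
    (idemLoc M B (memLocalRing_blockCoeff hB) : MonoidAlgebra (locRing M) G) with heR
  have heRc : IsClassElem eR := (idemLoc M B (memLocalRing_blockCoeff hB)).2
  have heRi : eR * eR = eR := congrArg Subtype.val (idemLoc_mul_self (memLocalRing_blockCoeff hB))
  set e : MonoidAlgebra (Res M) G := mapRingHom G (red M) eR with he
  have hec : IsClassElem e := heRc.map _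
  have hei : e * e = e := by rw [he, ← map_mul, heRi]
  haveI := isTwoSided_annIdeal hec
  haveI := finiteDimensional_annQuot (e := e)
  obtain ⟨r, hr⟩ := exists_rank_of_idempotent (regMat_mul_self heRi)
  obtain ⟨r', hr'⟩ := exists_rank_of_idempotent (clsMat_mul_self heRc heRi)
  have hr1 : (r : ℂ) = ∑ᶠ χ ∈ B, ((charDegree (χ : G → ℂ) : ℂ)) ^ 2 := by
    rw [← (hr ℂ (locRing M).subtype).2, regMat_map, heR, map_idemLoc, trace_regMat_blockIdem]
  have hr2 : r' = Nat.card B := by
    have h := (hr' ℂ (locRing M).subtype).2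
    rw [clsMat_map, heR, map_idemLoc, trace_clsMat_blockIdem] at h
    exact_mod_cast h.symm
  have hdim : finrank (Res M) (MonoidAlgebra (Res M) G ⧸ annIdeal e) = r := by
    rw [← (hr (Res M) (red M)).1, regMat_map, ← he, finrank_annQuot]
  have hc : finrank (Res M) ((MonoidAlgebra (Res M) G ⧸ annIdeal e) ⧸
      commSpan (Res M) (MonoidAlgebra (Res M) G ⧸ annIdeal e)) = Nat.card B := by
    rw [finrank_annQuot_comm hec hei, ← hr2, ← (hr' (Res M) (red M)).1, clsMat_map, ← he]
  have hBne : Nat.card B ≠ 0 := by
    haveI : Nonempty B := (isPBlock_nonempty hB).to_subtype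
    exact Nat.card_pos.ne'
  -- one Brauer character
  obtain ⟨D, hD⟩ := exists_isDefectGroup hM hB
  obtain ⟨φ, d, ⟨cn, hφn⟩, hdφ, -⟩ := Cfsg.Agent.S4675.result p M hM B hB D hD hl
  obtain ⟨y, hy⟩ := exists_isDefectClass hM hB
  obtain ⟨j, hj, hj0⟩ := exists_height_eq_zero (p := p) (isPBlock_nonempty hB)
  have hyreg : IsPRegular p y := not_dvd_orderOf_of_isDefectClass hM hB hy
  have hφR : ∀ x, IsPRegular p x → MemLocalRing M (φ x) := fun x hx => by
    rw [hφn x hx, finsum_mem_eq_sum_blockFinset]
    exact memLocalRing_sum fun ψ _ => memLocalRing_mul (memLocalRing_intCast _)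
      (memLocalRing_of_isIntegral
        (CharTheory.IsCharacter.isIntegral (CharTheory.IsIrrCharacter.isCharacter ψ.2) x))
  let φb : ∀ x, IsPRegular p x → Res M := fun x hx => red M ⟨φ x, hφR x hx⟩
  have hφy : φb y hyreg ≠ 0 := by
    rw [red_ne_zero_iff]
    intro h
    refine not_memLocalIdeal_irr_of_blockHeight_eq_zero hM hB hy hj hj0 ?_
    rw [hdφ j hj y hyreg]
    exact memLocalIdeal_mul_left (memLocalRing_natCast _) h
  have hline : ∀ f : ConjClasses G → Res M, clsMat e *ᵥ f = f → ∀ x (hx : IsPRegular p x),
      f (ConjClasses.mk x) * φb y hyreg = f (ConjClasses.mk y) * φb x hx := by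
    intro f hf x hx
    choose v hv using fun c => IsLocalRing.residue_surjective (f c)
    set w := clsMat eR *ᵥ v with hw
    have hwf : ∀ c, red M (w c) = f c := fun c => by
      conv_rhs => rw [← hf, he, ← clsMat_map]
      simp only [hw, Matrix.mulVec, dotProduct, map_sum, map_mul, Matrix.map_apply]
      exact Finset.sum_congr rfl fun i _ => by rw [← hv i]
    let vC : G → ℂ := fun g => (v (ConjClasses.mk g) : ℂ)
    have hvC : IsClassFunction G vC := fun g h => by
      show ((v _ : locRing M) : ℂ) = _
      congr 2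
      exact ConjClasses.mk_eq_mk_iff_isConj.2 (IsConj.symm (isConj_iff.2 ⟨h, by group⟩))
    set a := fun χ : IrrCharacter G => classInner vC (χ : G → ℂ)
    have hexp : ∀ g, IsPRegular p g →
        ((w (ConjClasses.mk g) : locRing M) : ℂ) =
          (∑ χ : IrrCharacter G, if χ ∈ B then a χ * (d χ : ℂ) else 0) * φ g := by
      intro g hg
      have h1 : ((w (ConjClasses.mk g) : locRing M) : ℂ) =
          ∑ h : G, blockCoeff B h * vC (g * h) := by
        rw [hw, clsMat_mulVec heRc]
        push_cast
        exact Finset.sum_congr rfl fun h _ => by rw [heR, coe_coeff_idemLoc]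
      have h2 : ∀ h : G, vC (g * h) = ∑ χ : IrrCharacter G, a χ * (χ : G → ℂ) (h * g) := by
        intro h
        have h3 := congrFun (eq_sum_classInner hvC) (g * h)
        rw [h3, Finset.sum_apply]
        refine Finset.sum_congr rfl fun χ _ => ?_
        rw [Pi.smul_apply, smul_eq_mul]
        congr 1
        conv_lhs => rw [show g * h = g * (h * g) * g⁻¹ by group]
        exact IsIrrCharacter.isClassFunction χ.2 _ _
      simp only [h1, h2, Finset.mul_sum]
      rw [Finset.sum_comm, Finset.sum_mul]
      refine Finset.sum_congr rfl fun χ _ => ?_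
      simp only [← mul_assoc, mul_comm (blockCoeff B _) (a χ)]
      simp only [mul_assoc, ← Finset.mul_sum]
      rw [sum_blockCoeff_mul_apply B χ g]
      by_cases hχ : χ ∈ B
      · simp [hχ, hdφ χ hχ g hg, mul_assoc]
      · simp [hχ]
    rw [← hwf, ← hwf, ← map_mul, ← map_mul]
    congr 1
    refine Subtype.ext ?_
    push_cast
    rw [hexp x hx, hexp y hyreg]
    ring
  -- one simple module
  haveI := IsArtinianRing.of_finite (Res M) (MonoidAlgebra (Res M) G ⧸ annIdeal e)
  obtain ⟨m, dm, hdm, ⟨iso⟩⟩ :=
    IsSemisimpleRing.exists_algEquiv_pi_matrix_of_isAlgClosed (Res M)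
      ((MonoidAlgebra (Res M) G ⧸ annIdeal e) ⧸
        Ring.jacobson (MonoidAlgebra (Res M) G ⧸ annIdeal e))
  set π := iso.toAlgHom.comp
    (Ideal.Quotient.mkₐ (Res M) (Ring.jacobson (MonoidAlgebra (Res M) G ⧸ annIdeal e)))
    with hπdef
  have hπ : Function.Surjective π := iso.surjective.comp (Ideal.Quotient.mkₐ_surjective (Res M) _)
  have hker : RingHom.ker π = Ring.jacobson (MonoidAlgebra (Res M) G ⧸ annIdeal e) := by
    ext x
    rw [RingHom.mem_ker]
    show iso (Ideal.Quotient.mk _ x) = 0 ↔ _
    rw [map_eq_zero_iff iso iso.injective, Ideal.Quotient.eq_zero_iff_mem]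
  have hnil : IsNilpotent (RingHom.ker π) := hker ▸ IsSemiprimaryRing.isNilpotent
  have hm0 : m ≠ 0 := by
    rintro rfl
    have h1 : (1 : MonoidAlgebra (Res M) G ⧸ annIdeal e) ∈ RingHom.ker π :=
      RingHom.mem_ker.2 (funext fun i => i.elim0)
    obtain ⟨N, hN⟩ := hnil
    have h3 := Ideal.pow_mem_pow h1 N
    rw [hN, one_pow, Submodule.zero_eq_bot, Submodule.mem_bot] at h3
    haveI := subsingleton_of_zero_eq_one h3.symm
    rw [finrank_zero_of_subsingleton] at hc
    exact hBne hc.symm
  have hm1 : m = 1 := by
    by_contra hne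
    have i0 : Fin m := ⟨0, Nat.pos_of_ne_zero hm0⟩
    obtain ⟨i1, hi1⟩ : ∃ i1 : Fin m, i1 ≠ i0 := by
      by_contra h
      push Not at h
      haveI : Subsingleton (Fin m) := ⟨fun a b => (h a).trans (h b).symm⟩
      have := Fintype.card_le_one_iff_subsingleton.2 ‹Subsingleton (Fin m)›
      rw [Fintype.card_fin] at this
      omega
    let T : Fin m → (MonoidAlgebra (Res M) G ⧸ annIdeal e) →ₗ[Res M] Res M := fun i =>
      ((Matrix.traceLinearMap (Fin (dm i)) (Res M) (Res M)).comp
        (LinearMap.proj i)).comp π.toLinearMap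
    have hTtr : ∀ i u v, T i (u * v) = T i (v * u) := fun i u v => by
      show (π (u * v) i).trace = (π (v * u) i).trace
      rw [map_mul, map_mul, Pi.mul_apply, Pi.mul_apply, Matrix.trace_mul_comm]
    set c := fun i => T i (annMap e (single y 1))
    have hval : ∀ i g, ∃ x, ∃ hx : IsPRegular p x,
        T i (annMap e (single g 1)) * φb y hyreg = c i * φb x hx ∧
        ∀ i', T i' (annMap e (single g 1)) * φb y hyreg = c i' * φb x hx := by
      intro i g
      obtain ⟨x, hx⟩ := exists_isPPart p g
      obtain ⟨x', hg, hcomm, hxp, hx'⟩ := hx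
      have hall : ∀ i', T i' (annMap e (single g 1)) * φb y hyreg = c i' * φb x' hx' := by
        intro i'
        obtain ⟨hcl, hfix⟩ := clsMat_mulVec_trace hec hei (T i') (hTtr i')
        have h := hline _ hfix x' hx'
        rw [hcl, hcl] at h
        have htr : T i' (annMap e (single g 1)) = T i' (annMap e (single x' 1)) := by
          let ρ : G →* Matrix (Fin (dm i')) (Fin (dm i')) (Res M) :=
            (((Pi.evalAlgHom (Res M) _ i').comp π).comp (annMap e)).toMonoidHom.comp
              (MonoidAlgebra.of (Res M) G)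
          rw [← hg]
          exact trace_mul_eq_of_commute ρ hcomm hxp
        rw [htr]
        exact h
      exact ⟨x', hx', hall i, hall⟩
    have hzero : ∀ a, c i1 * T i0 a = c i0 * T i1 a := by
      intro a
      obtain ⟨b, rfl⟩ := annMap_surjective a
      induction b using MonoidAlgebra.induction_linear with
      | zero => simp
      | add u v hu hv => simp only [map_add, mul_add, hu, hv]
      | single g s =>
        obtain ⟨x, hx, -, hall⟩ := hval i0 g
        rw [show single g s = s • single g (1 : Res M) by rw [smul_single', mul_one], map_smul,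
          map_smul, map_smul, smul_eq_mul, smul_eq_mul]
        refine mul_right_cancel₀ hφy ?_
        linear_combination c i1 * s * hall i0 - c i0 * s * hall i1
    have hTs : ∀ i, ∃ a, T i a = 1 ∧ ∀ i', i' ≠ i → T i' a = 0 := by
      intro i
      haveI := hdm i
      obtain ⟨a, ha⟩ := hπ (Pi.single i (Matrix.single
        ⟨0, Nat.pos_of_ne_zero (hdm i).out⟩ ⟨0, Nat.pos_of_ne_zero (hdm i).out⟩ 1))
      refine ⟨a, ?_, fun i' hi' => ?_⟩
      · show (π a i).trace = 1
        rw [ha, Pi.single_eq_same, Matrix.trace_single_eq_same]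
      · show (π a i').trace = 0
        rw [ha, Pi.single_eq_of_ne hi', Matrix.trace_zero]
    obtain ⟨a0, ha0, ha0'⟩ := hTs i0
    have hc1 : c i1 = 0 := by
      have := hzero a0
      rwa [ha0, ha0' i1 hi1, mul_one, mul_zero] at this
    obtain ⟨a1, ha1, ha1'⟩ := hTs i1
    have : T i1 a1 = 0 := by
      obtain ⟨b, rfl⟩ := annMap_surjective a1
      clear ha1 ha1'
      induction b using MonoidAlgebra.induction_linear with
      | zero => simp
      | add u v hu hv => simp only [map_add, hu, hv, add_zero]
      | single g s =>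
        obtain ⟨x, hx, -, hall⟩ := hval i0 g
        have h := hall i1
        rw [hc1, zero_mul, mul_eq_zero, or_iff_left hφy] at h
        rw [show single g s = s • single g (1 : Res M) by rw [smul_single', mul_one], map_smul,
          map_smul, h, smul_zero]
    rw [ha1] at this
    exact one_ne_zero this
  subst hm1
  let evl : (Π i, Matrix (Fin (dm i)) (Fin (dm i)) (Res M)) →ₐ[Res M]
      Matrix (Fin (dm 0)) (Fin (dm 0)) (Res M) := Pi.evalAlgHom _ _ 0
  have hkk : RingHom.ker (evl.comp π) = RingHom.ker π := by
    ext x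
    simp only [RingHom.mem_ker, evl, AlgHom.comp_apply, Pi.evalAlgHom_apply]
    refine ⟨fun h => funext fun i => ?_, fun h => by rw [h]; rfl⟩
    obtain rfl := Subsingleton.elim i 0
    exact h
  obtain ⟨ε, hεtr, hnd⟩ := exists_symm_form hec hei
  obtain ⟨f, hff, hfdim, hfL⟩ := exists_idem_of_finrank_le_four (evl.comp π)
    (Nat.pos_of_ne_zero (hdm 0).out)
    (fun z => by
      obtain ⟨x, hx⟩ := hπ (Pi.single 0 z)
      exact ⟨x, by simp [evl, hx]⟩)
    (hkk ▸ hnil) hc hk ε hεtr hnd
  refine ⟨dm 0, ?_, fun P hP => ?_⟩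
  · rw [← hr1, ← hdim, hfdim]
    push_cast
    ring
  · obtain ⟨a, rfl⟩ := annMap_surjective f
    set F := a * e with hFdef
    have hF : F * F = F := by
      rw [← map_mul, annMap_eq_iff] at hff
      calc a * e * (a * e) = a * (e * a) * e := by simp only [mul_assoc]
        _ = a * a * (e * e) := by rw [← (hec.commute a).eq]; simp only [mul_assoc]
        _ = a * e := by rw [hei, hff]
    have h := card_dvd_finrank_range_mulRight P hP hF
    suffices heq : finrank (Res M) (LinearMap.range (LinearMap.mulRight (Res M) F)) =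
        finrank (Res M) (LinearMap.range (LinearMap.mulRight (Res M) (annMap e a))) by
      rwa [heq, hfL] at h
    set R1 := LinearMap.range (LinearMap.mulRight (Res M) F)
    have hmap : R1.map (annMap e).toLinearMap =
        LinearMap.range (LinearMap.mulRight (Res M) (annMap e a)) := by
      ext z
      constructor
      · rintro ⟨_, ⟨x, rfl⟩, rfl⟩
        exact ⟨annMap e x, by simp [hFdef, annMap_mul_self hei]⟩
      · rintro ⟨z', rfl⟩
        obtain ⟨x, rfl⟩ := annMap_surjective z'
        exact ⟨x * F, ⟨x, rfl⟩, by simp [hFdef, annMap_mul_self hei]⟩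
    rw [← hmap]
    refine LinearEquiv.finrank_eq (LinearEquiv.ofBijective
      (((annMap e).toLinearMap.comp R1.subtype).codRestrict (R1.map (annMap e).toLinearMap)
        fun z => Submodule.mem_map_of_mem z.2) ⟨?_, ?_⟩)
    · rw [← LinearMap.ker_eq_bot, Submodule.eq_bot_iff]
      rintro ⟨z, x, rfl⟩ hz
      have hz' : annMap e (x * F) = 0 := congrArg Subtype.val (LinearMap.mem_ker.1 hz)
      rw [annMap_eq_zero, hFdef, mul_assoc, mul_assoc, hei] at hz'
      exact Subtype.ext (by simpa [hFdef, mul_assoc] using hz')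
    · rintro ⟨_, z, hz, rfl⟩
      exact ⟨⟨z, hz⟩, rfl⟩

end CfsgLib.BrauerCharacters
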