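import Cfsg.Agent.Lib.Correspondences.RealIrr
import Cfsg.Agent.Lib.CharTheory.Inflation
import Cfsg.Prelude.Def_Blocks

/-!
# A real element with odd centraliser forces an even degree
-/

set_option autoImplicit false
set_option linter.style.haveILetI false

namespace CfsgLib.BrauerCharacters.EvenDegree

open Cfsg CfsgLib.CharTheory CfsgLib.RealChar Finset
open scoped ComplexConjugate

variable {G : Type*} [Group G] [Finite G]

theorem not_isIntegral_half : ¬ IsIntegral ℤ ((1 : ℂ) / 2) := by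
  intro h
  have h1 : IsIntegral ℤ ((1 : ℚ) / 2) := by
    rw [← isIntegral_algebraMap_iff (R := ℤ) (B := ℂ) (algebraMap ℚ ℂ).injective]
    simpa using h
  obtain ⟨n, hn⟩ := IsIntegrallyClosed.isIntegral_iff.1 h1
  rw [eq_intCast] at hn
  have h2 : ((2 * n : ℤ) : ℚ) = ((1 : ℤ) : ℚ) := by push_cast; rw [hn]; norm_num
  have h3 := Int.cast_injective h2
  omega

theorem exists_even_degree {x : G} (hx1 : x ≠ 1) (hx : IsConj x x⁻¹)
    (hC : Odd (Nat.card (Subgroup.centralizer ({x} : Set G)))) :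
    ∃ χ : IrrCharacter G, Even (charDegree (χ : G → ℂ)) := by
  classical
  haveI := Fintype.ofFinite G
  haveI := Fintype.ofFinite (IrrCharacter G)
  by_contra hall
  push Not at hall
  have hodd : ∀ χ : IrrCharacter G, ∃ j : ℕ, (χ : G → ℂ) 1 = 2 * (j : ℂ) + 1 := fun χ => by
    obtain ⟨d, -, hd⟩ := exists_degree_of_isIrr χ.2
    obtain ⟨j, hj⟩ := Nat.not_even_iff_odd.1 (hall χ)
    refine ⟨j, ?_⟩
    rw [hd]
    rw [show charDegree (χ : G → ℂ) = d by simp [charDegree, hd]] at hj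
    rw [hj]; push_cast; ring
  choose j hj using hodd
  have hreal : ∀ χ : IrrCharacter G, conj ((χ : G → ℂ) x) = (χ : G → ℂ) x := fun χ => by
    obtain ⟨c, hc⟩ := isConj_iff.1 hx
    rw [← IsIrrCharacter.inv χ.2, ← hc, IsIrrCharacter.isClassFunction χ.2]
  set Re := univ.filter fun χ : IrrCharacter G => ∀ g, ((χ : G → ℂ) g).im = 0 with hRe
  have hν : ∀ χ : IrrCharacter G, fsIndicator (χ : G → ℂ) = if χ ∈ Re then 1 else 0 := by
    intro χ
    split_ifs with h
    · obtain ⟨d, -, hd⟩ := exists_degree_of_isIrr χ.2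
      refine Correspondences.fsIndicator_irr_eq_one_of_odd χ.2 hd ?_ (mem_filter.1 h).2
      simpa [charDegree, hd] using hall χ
    · refine ((Correspondences.fsIndicator_irr_cases χ.2).2).2 ?_
      simpa [hRe] using h
  -- exactly one square root
  set C := Subgroup.centralizer ({x} : Set G)
  have hxC : x ∈ C := Subgroup.mem_centralizer_singleton_iff.2 rfl
  have hsq : (univ.filter fun u : G => u * u = x).card = 1 := by
    obtain ⟨k, hk⟩ := hC
    have hpow : ∀ u ∈ C, u ^ (2 * k + 1) = 1 := fun u hu => by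
      rw [← hk]; exact orderOf_dvd_iff_pow_eq_one.1 (Subgroup.orderOf_dvd_natCard C hu)
    rw [card_eq_one]
    refine ⟨x ^ (k + 1), eq_singleton_iff_unique_mem.2 ⟨?_, fun u hu => ?_⟩⟩
    · simp only [mem_filter, mem_univ, true_and]
      rw [← pow_add, show k + 1 + (k + 1) = 2 * k + 1 + 1 by ring, pow_succ, hpow x hxC, one_mul]
    · simp only [mem_filter, mem_univ, true_and] at hu
      have huC : u ∈ C := Subgroup.mem_centralizer_singleton_iff.2 (by rw [← hu, mul_assoc])
      rw [← hu, ← pow_two, ← pow_mul, show 2 * (k + 1) = 2 * k + 1 + 1 by ring, pow_succ, hpow u huC,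
        one_mul]
  have h1 : ∑ χ ∈ Re, (χ : G → ℂ) x = 1 := by
    have := Correspondences.card_sqrt_eq_sum x
    rw [hsq, Nat.cast_one] at this
    rw [this, ← univ_inter Re, ← sum_ite_mem]
    exact sum_congr rfl fun χ _ => by rw [hν χ]; split_ifs <;> simp
  have h0 := sum_degree_mul (G := G) x
  rw [if_neg hx1, sum_congr rfl (g := fun χ : IrrCharacter G => 2 * ((j χ : ℂ) * (χ : G → ℂ) x) +
    (χ : G → ℂ) x) (fun χ _ => by rw [hj χ]; ring), sum_add_distrib, ← mul_sum,
    ← sum_filter_add_sum_filter_not univ (fun χ : IrrCharacter G => ∀ g, ((χ : G → ℂ) g).im = 0)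
      (fun χ => (χ : G → ℂ) x), ← hRe, h1] at h0
  -- the characters that are not real come in pairs
  let cj : IrrCharacter G → IrrCharacter G := fun χ => ⟨_, isIrrCharacter_conj χ.2⟩
  have hcj : ∀ χ g, (cj χ : G → ℂ) g = conj ((χ : G → ℂ) g) := fun χ g => rfl
  have hinv : ∀ χ, cj (cj χ) = χ := fun χ => Subtype.ext (funext fun g => by simp [hcj])
  let e := Fintype.equivFin (IrrCharacter G)
  set N := univ.filter fun χ : IrrCharacter G => ¬ ∀ g, ((χ : G → ℂ) g).im = 0 with hN
  have hNm : ∀ χ, χ ∈ N → cj χ ∈ N ∧ cj χ ≠ χ := by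
    intro χ hχ
    simp only [hN, mem_filter, mem_univ, true_and] at hχ ⊢
    push Not at hχ
    obtain ⟨g, hg⟩ := hχ
    refine ⟨fun hc => hg (by simpa [hcj] using hc g), fun ec => hg ?_⟩
    exact Complex.conj_eq_iff_im.1 (by rw [← hcj, ec])
  have hpair : ∑ χ ∈ N, (χ : G → ℂ) x = 2 * ∑ χ ∈ N.filter (fun χ => e χ < e (cj χ)), (χ : G → ℂ) x := by
    rw [two_mul, ← sum_filter_add_sum_filter_not N (fun χ => e χ < e (cj χ))]
    congr 1
    refine sum_nbij' cj cj (fun χ hχ => ?_) (fun χ hχ => ?_) (fun χ _ => hinv χ) (fun χ _ => hinv χ)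
      (fun χ _ => (hreal χ).symm)
    · obtain ⟨hm, hlt⟩ := mem_filter.1 hχ
      refine mem_filter.2 ⟨(hNm χ hm).1, ?_⟩
      rw [hinv]
      exact lt_of_le_of_ne (not_lt.1 hlt) fun he => (hNm χ hm).2 (e.injective he)
    · obtain ⟨hm, hlt⟩ := mem_filter.1 hχ
      refine mem_filter.2 ⟨(hNm χ hm).1, ?_⟩
      rw [hinv]
      exact not_lt.2 hlt.le
  rw [hpair] at h0
  apply not_isIntegral_half
  set z := ∑ χ : IrrCharacter G, (j χ : ℂ) * (χ : G → ℂ) x +
    ∑ χ ∈ N.filter (fun χ => e χ < e (cj χ)), (χ : G → ℂ) x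
  have hz : (1 : ℂ) / 2 = -z := by linear_combination (1 / 2 : ℂ) * h0
  rw [hz]
  refine ((IsIntegral.sum _ fun χ _ => (isIntegral_natCast _).mul ?_).add
    (IsIntegral.sum _ fun χ _ => ?_)).neg
  all_goals exact CharTheory.IsCharacter.isIntegral (IsIrrCharacter.isCharacter χ.2) x

end CfsgLib.BrauerCharacters.EvenDegree
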