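import Cfsg.Agent.S2299
import Cfsg.Agent.S2300
import Cfsg.Agent.S2434
import Cfsg.Agent.Lib.InvCentralizers.SL2Tables
import Cfsg.Agent.Lib.ClassK.SLSteinberg
import Cfsg.Agent.Lib.CharTheory.Inflation
import Cfsg.Prelude.Def_DegreeGraph

/-!
# Degrees of the irreducible characters of `PSL₂(q)`
-/

set_option autoImplicit false
set_option linter.unusedSectionVars false
set_option linter.style.haveILetI false

open Matrix Cfsg CfsgLib.CharTheory
open scoped MatrixGroups

namespace CfsgLib.BrauerCharacters.PSL2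

variable {F : Type*} [Field F] [Fintype F]

/-- The quotient map. -/
def proj : SL(2, F) →* Matrix.ProjectiveSpecialLinearGroup (Fin 2) F :=
  QuotientGroup.mk' (Subgroup.center _)

theorem proj_surjective : Function.Surjective (proj (F := F)) := QuotientGroup.mk'_surjective _

/-- Inflation to `SL₂`. -/
noncomputable def inflate (χ : IrrCharacter (Matrix.ProjectiveSpecialLinearGroup (Fin 2) F)) :
    IrrCharacter (SL(2, F)) := ⟨_, isIrrCharacter_comp χ.2 proj_surjective⟩

theorem inflate_injective : Function.Injective (inflate (F := F)) := fun a b h => by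
  apply Subtype.ext
  funext x
  obtain ⟨g, rfl⟩ := proj_surjective x
  exact congrFun (congrArg Subtype.val h) g

theorem charDegree_inflate (χ : IrrCharacter (Matrix.ProjectiveSpecialLinearGroup (Fin 2) F)) :
    charDegree (inflate χ : SL(2, F) → ℂ) =
      charDegree (χ : Matrix.ProjectiveSpecialLinearGroup (Fin 2) F → ℂ) := by
  simp only [charDegree, inflate, map_one]

theorem center_cases {z : SL(2, F)} (hz : z ∈ Subgroup.center (SL(2, F))) : z = 1 ∨ z = -1 := by
  obtain ⟨r, hr, hrz⟩ := Matrix.SpecialLinearGroup.mem_center_iff.1 hz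
  rw [Fintype.card_fin, sq, mul_self_eq_one_iff] at hr
  rcases hr with rfl | rfl
  · exact Or.inl (Subtype.ext (by rw [← hrz]; simp))
  · exact Or.inr (Subtype.ext (by rw [← hrz]; ext i j; fin_cases i <;> fin_cases j <;> simp))

/-- A character with `-1` in the kernel descends. -/
theorem exists_descend_negOne {χ : SL(2, F) → ℂ} (hχ : IsIrrCharacter (SL(2, F)) χ)
    (h : χ (-1) = χ 1) :
    ∃ ψ : IrrCharacter (Matrix.ProjectiveSpecialLinearGroup (Fin 2) F),
      (ψ : Matrix.ProjectiveSpecialLinearGroup (Fin 2) F → ℂ) 1 = χ 1 := by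
  obtain ⟨ψ, hψ, he⟩ := exists_descend hχ (Subgroup.center (SL(2, F))) fun g hg => by
    rcases center_cases hg with rfl | rfl
    · rfl
    · exact h
  exact ⟨⟨ψ, hψ⟩, (he 1).symm⟩

theorem charDegree_eq_of_apply_one {G : Type*} [Group G] {χ : G → ℂ} {n : ℕ} (h : χ 1 = n) :
    charDegree χ = n := by simp [charDegree, h]

theorem exists_degree_card :
    ∃ ψ : IrrCharacter (Matrix.ProjectiveSpecialLinearGroup (Fin 2) F),
      charDegree (ψ : Matrix.ProjectiveSpecialLinearGroup (Fin 2) F → ℂ) = Fintype.card F := by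
  classical
  obtain ⟨χ, h1, -, hz⟩ := ClassK.SLn.exists_steinberg 2 F
  obtain ⟨ψ, hψ, he⟩ := exists_descend χ.2 (Subgroup.center (SL(2, F))) hz
  refine ⟨⟨ψ, hψ⟩, charDegree_eq_of_apply_one (n := Fintype.card F) ?_⟩
  refine (he 1).symm.trans (h1.trans ?_)
  rw [ClassK.SLn.card_upperU]
  simp

theorem degree_cases_odd (hodd : Odd (Fintype.card F)) (χ : IrrCharacter (SL(2, F))) :
    charDegree (χ : SL(2, F) → ℂ) = 1 ∨ charDegree (χ : SL(2, F) → ℂ) = Fintype.card F ∨
      charDegree (χ : SL(2, F) → ℂ) = Fintype.card F + 1 ∨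
      charDegree (χ : SL(2, F) → ℂ) = Fintype.card F - 1 ∨
      charDegree (χ : SL(2, F) → ℂ) = (Fintype.card F + 1) / 2 ∨
      charDegree (χ : SL(2, F) → ℂ) = (Fintype.card F - 1) / 2 := by
  have h1 := Fintype.one_lt_card (α := F)
  rcases (Cfsg.Agent.S2299.result hodd).1 _ χ.2 with h | h | h | h | h | h
  · exact Or.inl (charDegree_eq_of_apply_one (by rw [h, Nat.cast_one]))
  · exact Or.inr (Or.inl (charDegree_eq_of_apply_one h))
  · exact Or.inr (Or.inr (Or.inl (charDegree_eq_of_apply_one (by rw [h, Nat.cast_succ]))))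
  · exact Or.inr (Or.inr (Or.inr (Or.inl (charDegree_eq_of_apply_one
      (by rw [h, Nat.cast_sub h1.le, Nat.cast_one])))))
  · exact Or.inr (Or.inr (Or.inr (Or.inr (Or.inl (charDegree_eq_of_apply_one h)))))
  · exact Or.inr (Or.inr (Or.inr (Or.inr (Or.inr (charDegree_eq_of_apply_one h)))))

theorem exists_degree_card_add_one (hodd : Odd (Fintype.card F)) (h5 : 5 < Fintype.card F) :
    ∃ ψ : IrrCharacter (Matrix.ProjectiveSpecialLinearGroup (Fin 2) F),
      charDegree (ψ : Matrix.ProjectiveSpecialLinearGroup (Fin 2) F → ℂ) = Fintype.card F + 1 := by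
  classical
  have hn : Fintype.card F - 1 ≠ 0 := by omega
  obtain ⟨β, hβ⟩ := MulChar.exists_mulChar_orderOf F dvd_rfl (Complex.isPrimitiveRoot_exp _ hn)
  set α := β * β with hα
  have hα2 : α ^ 2 ≠ 1 := by
    intro h
    have h4 : β ^ 4 = 1 := by
      rw [← h, hα, ← sq, ← pow_mul]
    have := Nat.le_of_dvd (by norm_num) (orderOf_dvd_of_pow_eq_one h4)
    rw [hβ] at this
    obtain ⟨m, hm⟩ := hodd
    omega
  have hirr := (CfsgLib.InvCentralizers.SL2Tables.principalSeries_irr_iff α).2 hα2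
  have hneg : CfsgLib.CharDegrees.principalSeries α (-1 : SL(2, F)) =
      CfsgLib.CharDegrees.principalSeries α 1 := by
    rw [CfsgLib.CharDegrees.principalSeries_apply_one,
      CfsgLib.CharDegrees.principalSeries_upper α (-1) (by simp)]
    have : α (-1) = 1 := by
      rw [hα, MulChar.mul_apply, ← map_mul, neg_one_mul, neg_neg, map_one]
    simp [this]
  obtain ⟨ψ, hψ⟩ := exists_descend_negOne hirr hneg
  refine ⟨ψ, charDegree_eq_of_apply_one ?_⟩
  rw [hψ, CfsgLib.CharDegrees.principalSeries_apply_one, Nat.cast_succ]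

theorem exists_degree_card_sub_one (hodd : Odd (Fintype.card F)) (h5 : 5 < Fintype.card F) :
    ∃ ψ : IrrCharacter (Matrix.ProjectiveSpecialLinearGroup (Fin 2) F),
      charDegree (ψ : Matrix.ProjectiveSpecialLinearGroup (Fin 2) F → ℂ) = Fintype.card F - 1 := by
  classical
  obtain ⟨C, hT⟩ := CfsgLib.CharDegrees.exists_nonsplitTorus
    (CfsgLib.CharDegrees.two_ne_zero_of_odd_card hodd)
  obtain ⟨-, hC, hcard⟩ := hT
  haveI := hC
  obtain ⟨g, hg⟩ := IsCyclic.exists_generator (α := C)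
  have hn : Fintype.card F + 1 ≠ 0 := Nat.succ_ne_zero _
  have hζ := Complex.isPrimitiveRoot_exp _ hn
  set ζ : ℂˣ := Units.mk0 (Complex.exp (2 * Real.pi * Complex.I / (Fintype.card F + 1 : ℕ)))
    (hζ.ne_zero hn) with hζdef
  have hord : orderOf ζ = Fintype.card F + 1 := by
    rw [← orderOf_units, hζdef, Units.val_mk0, ← hζ.eq_orderOf]
  have hgo : orderOf g = Fintype.card F + 1 := by rw [orderOf_eq_card_of_forall_mem_zpowers hg, hcard]
  set θ₀ : C →* ℂˣ := monoidHomOfForallMemZpowers hg (g' := ζ) (by rw [hord, hgo]) with hθ₀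
  have hθg : θ₀ g = ζ := monoidHomOfForallMemZpowers_apply_gen hg _
  obtain ⟨χ, hχ, hdeg, -, hcen, -, -⟩ := (Cfsg.Agent.S2434.result hodd C hC hcard).1 (θ₀ * θ₀)
    ⟨g, fun h => by
      have h4 : ζ ^ 4 = 1 := by
        rw [← h, MonoidHom.mul_apply, hθg, ← sq, ← pow_mul]
      have := Nat.le_of_dvd (by norm_num) (orderOf_dvd_of_pow_eq_one h4)
      omega⟩
  have hneg1 : (-1 : SL(2, F)) ∈ C := by
    obtain ⟨m, hm⟩ := hodd
    set c := g ^ (m + 1) with hc
    have hco : orderOf c = 2 := by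
      rw [hc, orderOf_pow' _ (Nat.succ_ne_zero m), hgo, hm,
        show (2 * m + 1 + 1) = (m + 1) * 2 by ring, Nat.gcd_eq_right (dvd_mul_right _ _),
        Nat.mul_div_cancel_left _ (Nat.succ_pos m)]
    have hsq : (c : SL(2, F)) ^ 2 = 1 := by
      have h := pow_orderOf_eq_one c
      rw [hco] at h
      rw [← SubmonoidClass.coe_pow, h, OneMemClass.coe_one]
    have hne : (c : SL(2, F)) ≠ 1 := fun e => by
      rw [← orderOf_eq_one_iff, Subgroup.orderOf_coe, hco] at e
      omega
    rw [← CfsgLib.SL2.eq_neg_one_of_sq_eq_one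
      (CfsgLib.CharDegrees.two_ne_zero_of_odd_card ⟨m, hm⟩) hsq hne]
    exact c.2
  have hneg : χ (-1) = χ 1 := by
    have hz : ((⟨-1, hneg1⟩ : C) : SL(2, F)) ∈ Subgroup.center (SL(2, F)) :=
      Subgroup.mem_center_iff.2 fun x => by simp
    have h := hcen ⟨-1, hneg1⟩ hz 1
    rw [mul_one, MonoidHom.mul_apply, ← map_mul,
      show (⟨-1, hneg1⟩ * ⟨-1, hneg1⟩ : C) = 1 from Subtype.ext (by simp), map_one, Units.val_one,
      one_mul] at h
    exact h
  obtain ⟨ψ, hψ⟩ := exists_descend_negOne hχ hneg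
  refine ⟨ψ, charDegree_eq_of_apply_one ?_⟩
  rw [hψ, hdeg, Nat.cast_sub (by omega), Nat.cast_one]

end CfsgLib.BrauerCharacters.PSL2
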