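import Mathlib.RingTheory.SimpleModule.IsAlgClosed
import Mathlib.RingTheory.Artinian.Ring
import Mathlib.RingTheory.Idempotents
import Mathlib.LinearAlgebra.Dimension.RankNullity
import Mathlib.LinearAlgebra.Matrix.Trace

/-!
# Symmetric algebras with two trace functions

An indecomposable symmetric algebra over an algebraically closed field whose space of trace
functions has dimension two is a matrix algebra over a two-dimensional algebra.
-/

set_option autoImplicit false

namespace CfsgLib.BrauerCharacters

open Module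

variable (k : Type*) [Field k] (B : Type*) [Ring B] [Algebra k B]

/-- The span of the commutators. -/
def commSpan : Submodule k B := Submodule.span k {z | ∃ x y : B, z = x * y - y * x}

variable {k B}

theorem comm_mem_commSpan (x y : B) : x * y - y * x ∈ commSpan k B :=
  Submodule.subset_span ⟨x, y, rfl⟩

theorem commSpan_le_ker {V : Type*} [AddCommGroup V] [Module k V] (τ : B →ₗ[k] V)
    (h : ∀ x y, τ (x * y) = τ (y * x)) : commSpan k B ≤ LinearMap.ker τ :=
  Submodule.span_le.2 fun z ⟨x, y, hz⟩ => by
    rw [SetLike.mem_coe, LinearMap.mem_ker, hz, map_sub, h, sub_self]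

section Matrix

variable [FiniteDimensional k B] {n : ℕ} (π : B →ₐ[k] Matrix (Fin n) (Fin n) k)

/-- If `B` maps onto a matrix algebra with nilpotent kernel and has at most two independent
trace functions, then it has dimension `2 n²`. -/
theorem finrank_eq_two_mul_sq_of_matrix (hn : 0 < n) (hπ : Function.Surjective π)
    (hnil : IsNilpotent (RingHom.ker π)) (h2 : finrank k (B ⧸ commSpan k B) = 2) :
    finrank k B = 2 * n ^ 2 := by
  classical
  set K : Ideal B := RingHom.ker π with hK
  haveI : K.IsTwoSided := by rw [hK]; infer_instance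
  have hmemK : ∀ x, x ∈ K ↔ π x = 0 := fun x => RingHom.mem_ker
  obtain ⟨N, hN⟩ := hnil
  rw [Submodule.zero_eq_bot] at hN
  have hK0 : ∀ x : B, x ∈ K ^ 0 := fun x => by rw [Submodule.pow_zero, Ideal.one_eq_top]; trivial
  have hsucc : ∀ (r : ℕ) {x j : B}, x ∈ K ^ r → j ∈ K → x * j ∈ K ^ (r + 1) := fun r x j hx hj => by
    rw [Submodule.pow_succ]; exact Ideal.mul_mem_mul hx hj
  have hsucc' : ∀ (r : ℕ) {x j : B}, x ∈ K ^ r → j ∈ K → j * x ∈ K ^ (r + 1) := fun r x j hx hj => by
    rw [Ideal.IsTwoSided.pow_succ]; exact Ideal.mul_mem_mul hj hx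
  have hnilK : ∀ x ∈ K, IsNilpotent x := fun x hx => ⟨N, by
    have := Ideal.pow_mem_pow hx N
    rwa [hN, Submodule.mem_bot] at this⟩
  -- lifts of the matrix units
  let o : Fin n := ⟨0, hn⟩
  obtain ⟨f, hf, hπf⟩ := exists_isIdempotentElem_eq_of_ker_isNilpotent (π : B →+* _) hnilK
    (Matrix.single o o (1 : k)) (RingHom.mem_range.2 (hπ (Matrix.single o o (1 : k)))) (by simp [IsIdempotentElem])
  have hff : f * f = f := hf
  change π f = _ at hπf
  choose a ha using fun i : Fin n => hπ (Matrix.single o i (1 : k))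
  choose b hb using fun i : Fin n => hπ (Matrix.single i o (1 : k))
  set u := ∑ i, b i * f * a i with hu
  have hπu : π u = 1 := by
    simp only [hu, map_sum, map_mul, ha, hb, hπf, Matrix.single_mul_single_same, mul_one]
    exact Matrix.sum_single_eq_diagonal (fun _ => (1 : k))
  have huu : IsUnit u := by
    have h := (hnilK (1 - u) ((hmemK _).2 (by rw [map_sub, map_one, hπu, sub_self]))).isUnit_one_sub
    rwa [sub_sub_cancel] at h
  -- the corner at `f`
  set A : Submodule k B :=
    LinearMap.range ((LinearMap.mulLeft k f).comp (LinearMap.mulRight k f)) with hA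
  have hAmem : ∀ x : B, f * x * f ∈ A := fun x => ⟨x, by simp [mul_assoc]⟩
  have hAfix : ∀ x ∈ A, f * x = x ∧ x * f = x := by
    rintro _ ⟨x, rfl⟩
    simp only [LinearMap.comp_apply, LinearMap.mulLeft_apply, LinearMap.mulRight_apply]
    exact ⟨by rw [← mul_assoc, hff], by rw [mul_assoc, mul_assoc, hff]⟩
  -- the dimension of `B`
  let Φ : B →ₗ[k] (Fin n × Fin n → A) := LinearMap.pi fun q =>
    LinearMap.codRestrict A
      ((LinearMap.mulLeft k (f * a q.1)).comp (LinearMap.mulRight k (b q.2 * f)))
      (fun x => by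
        convert hAmem (a q.1 * x * b q.2) using 1
        simp [mul_assoc])
  have hΦ : ∀ x q, (Φ x q : B) = f * a q.1 * (x * (b q.2 * f)) := fun x q => rfl
  have hΦinj : Function.Injective Φ := by
    rw [← LinearMap.ker_eq_bot, Submodule.eq_bot_iff]
    intro x hx
    have h1 : u * x * u = 0 := by
      rw [hu, Finset.sum_mul, Finset.sum_mul]
      refine Finset.sum_eq_zero fun i _ => ?_
      rw [Finset.mul_sum]
      refine Finset.sum_eq_zero fun j _ => ?_
      have h := congrArg (fun z : A => (z : B)) (congrFun (LinearMap.mem_ker.1 hx) (i, j))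
      simp only [hΦ, Pi.zero_apply, ZeroMemClass.coe_zero] at h
      calc b i * f * a i * x * (b j * f * a j)
          = b i * (f * a i * (x * (b j * f))) * a j := by simp [mul_assoc]
        _ = 0 := by rw [h, mul_zero, zero_mul]
    rwa [huu.mul_left_eq_zero, huu.mul_right_eq_zero] at h1
  let Ψ : (Fin n × Fin n → A) →ₗ[k] B := ∑ q : Fin n × Fin n,
    ((LinearMap.mulLeft k (b q.1 * f)).comp (LinearMap.mulRight k (f * a q.2))).comp
      (A.subtype.comp (LinearMap.proj q))
  have hΨ : ∀ y, Ψ y = ∑ q : Fin n × Fin n, b q.1 * f * ((y q : B) * (f * a q.2)) := fun y => by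
    simp [Ψ, LinearMap.sum_apply, mul_assoc]
  have hΨinj : Function.Injective Ψ := by
    rw [← LinearMap.ker_eq_bot, Submodule.eq_bot_iff]
    intro y hy
    set v : Fin n → Fin n → B := fun i l => f * a i * (b l * f) with hv
    set dl : Fin n → Fin n → B := fun i l => if i = l then f else 0 with hdl
    have hd : ∀ i l, v i l - dl i l ∈ K := by
      intro i l
      rw [hmemK, map_sub]
      by_cases h : i = l
      · subst h
        simp [hv, hdl, ha, hb, hπf]
      · simp [hv, hdl, ha, hb, hπf, h]
    have hall : ∀ r, ∀ q, (y q : B) ∈ K ^ r := by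
      intro r
      induction r with
      | zero => exact fun q => hK0 _
      | succ r ih =>
        rintro ⟨i, j⟩
        have h0 : ∑ q : Fin n × Fin n, v i q.1 * (y q : B) * v q.2 j = 0 := by
          have := congrArg (fun z => f * a i * (z * (b j * f))) (LinearMap.mem_ker.1 hy)
          simp only [hΨ, zero_mul, mul_zero, Finset.sum_mul, Finset.mul_sum] at this
          rw [← this]
          refine Finset.sum_congr rfl fun q _ => ?_
          simp only [hv, mul_assoc, ← mul_assoc f f, hff]
        have h1 : ∑ q : Fin n × Fin n, dl i q.1 * (y q : B) * dl q.2 j = (y (i, j) : B) := by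
          rw [Finset.sum_eq_single (i, j)]
          · simp [hdl, hAfix _ (y (i, j)).2]
          · rintro ⟨l, m⟩ - hne
            by_cases h : i = l
            · have : m ≠ j := fun h' => hne (by rw [h, h'])
              simp [hdl, this]
            · simp [hdl, h]
          · simp
        have h2 : (y (i, j) : B) = -∑ q : Fin n × Fin n,
            ((v i q.1 - dl i q.1) * (y q : B) * dl q.2 j +
              v i q.1 * (y q : B) * (v q.2 j - dl q.2 j)) := by
          rw [← h1, eq_neg_iff_add_eq_zero, ← Finset.sum_add_distrib, ← h0]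
          exact Finset.sum_congr rfl fun q _ => by simp only [sub_mul, mul_sub]; abel
        rw [h2]
        refine neg_mem (sum_mem fun q _ => add_mem ?_ ?_)
        · exact Ideal.mul_mem_right _ _ (hsucc' r (ih q) (hd _ _))
        · exact hsucc r (Ideal.mul_mem_left _ _ (ih q)) (hd _ _)
    funext q
    have := hall N q
    rw [hN, Submodule.mem_bot] at this
    exact Subtype.ext this
  have hdim : finrank k B = n ^ 2 * finrank k A := by
    have e1 : finrank k (Fin n × Fin n → A) = n ^ 2 * finrank k A := by
      rw [Module.finrank_pi_fintype]; simp [sq]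
    rw [← e1]
    exact le_antisymm (LinearMap.finrank_le_finrank_of_injective hΦinj)
      (LinearMap.finrank_le_finrank_of_injective hΨinj)
  -- trace functions on the corner
  set CA : Submodule k B := Submodule.span k {z | ∃ x ∈ A, ∃ y ∈ A, z = x * y - y * x} with hCA
  obtain ⟨w, hw⟩ := huu.exists_left_inv
  set c : Fin n → B := fun i => w * b i with hc
  have hone : ∑ i, c i * f * a i = 1 := by
    rw [← hw, hu, Finset.mul_sum]; exact Finset.sum_congr rfl fun i _ => by simp [hc, mul_assoc]
  let φ : B →ₗ[k] B := ∑ i, (LinearMap.mulLeft k (f * a i)).comp (LinearMap.mulRight k (c i * f))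
  have hφ : ∀ x, φ x = ∑ i, f * a i * (x * (c i * f)) := fun x => by simp [φ, LinearMap.sum_apply, mul_assoc]
  have hAcomm : ∀ x ∈ A, ∀ y ∈ A, x * y - y * x ∈ CA := fun x hx y hy =>
    Submodule.subset_span ⟨x, hx, y, hy, rfl⟩
  have hφC : commSpan k B ≤ CA.comap φ := by
    refine Submodule.span_le.2 ?_
    rintro _ ⟨x, y, rfl⟩
    rw [SetLike.mem_coe, Submodule.mem_comap, map_sub]
    have hexp : ∀ x y : B, φ (x * y) =
        ∑ i, ∑ j, (f * (a i * x * c j) * f) * (f * (a j * y * c i) * f) := by
      intro x y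
      rw [hφ]
      refine Finset.sum_congr rfl fun i _ => ?_
      calc f * a i * (x * y * (c i * f))
          = f * a i * x * (∑ j, c j * f * a j) * (y * (c i * f)) := by
            rw [hone, mul_one]; simp only [mul_assoc]
        _ = _ := by
            rw [Finset.mul_sum, Finset.sum_mul]
            refine Finset.sum_congr rfl fun j _ => ?_
            simp only [mul_assoc, ← mul_assoc f f, hff]
    rw [hexp, hexp, Finset.sum_comm (f := fun i j => (f * (a i * y * c j) * f) * _),
      ← Finset.sum_sub_distrib]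
    refine sum_mem fun i _ => ?_
    rw [← Finset.sum_sub_distrib]
    exact sum_mem fun j _ => hAcomm _ (hAmem _) _ (hAmem _)
  have hφA : ∀ x ∈ A, φ x - x ∈ CA := by
    intro x hx
    obtain ⟨hfx, hxf⟩ := hAfix x hx
    have hx' : x = ∑ i, (f * (x * c i) * f) * (f * a i * f) := by
      calc x = x * (∑ i, c i * f * a i) * f := by rw [hone, mul_one, hxf]
        _ = _ := by
            rw [Finset.mul_sum, Finset.sum_mul]
            refine Finset.sum_congr rfl fun i _ => ?_
            simp only [mul_assoc, ← mul_assoc f f, hff]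
            rw [← mul_assoc f x, hfx]
    have hφx : φ x = ∑ i, (f * a i * f) * (f * (x * c i) * f) := by
      rw [hφ]
      refine Finset.sum_congr rfl fun i _ => ?_
      simp only [mul_assoc, ← mul_assoc f f, hff]
      rw [← mul_assoc f x, hfx]
    rw [hφx]
    nth_rewrite 2 [hx']
    rw [← Finset.sum_sub_distrib]
    exact sum_mem fun i _ => hAcomm _ (hAmem _) _ (hAmem _)
  let q : A →ₗ[k] B ⧸ commSpan k B := (commSpan k B).mkQ.comp A.subtype
  have hkerq : (LinearMap.ker q).map A.subtype ≤ CA := by
    rintro _ ⟨⟨x, hx⟩, hxq, rfl⟩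
    have h1 : x ∈ commSpan k B := (Submodule.Quotient.mk_eq_zero _).1 hxq
    have h1' : φ x ∈ CA := hφC h1
    have h2 := sub_mem h1' (hφA x hx)
    rwa [sub_sub_cancel] at h2
  have hqsurj : Function.Surjective q := by
    intro z
    induction z using Submodule.Quotient.induction_on with
    | _ x =>
      refine ⟨⟨∑ i, f * (a i * x * c i) * f, sum_mem fun i _ => hAmem _⟩, ?_⟩
      show Submodule.Quotient.mk (∑ i, f * (a i * x * c i) * f) = Submodule.Quotient.mk x
      rw [Submodule.Quotient.eq]
      have hx : x = ∑ i, c i * f * a i * x := by rw [← Finset.sum_mul, hone, one_mul]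
      nth_rewrite 2 [hx]
      rw [← Finset.sum_sub_distrib]
      refine sum_mem fun i _ => ?_
      convert comm_mem_commSpan (k := k) (f * a i * x) (c i * f) using 1
      simp only [mul_assoc, ← mul_assoc f f, hff]
  have hrn : finrank k (LinearMap.ker q) + 2 = finrank k A := by
    rw [← h2, ← LinearMap.finrank_range_add_finrank_ker q, LinearMap.range_eq_top.2 hqsurj,
      finrank_top, add_comm]
  -- the radical of the corner
  set m : Submodule k B := A ⊓ K.restrictScalars k with hm
  have hfA : f ∈ A := by have := hAmem 1; rwa [mul_one, hff] at this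
  have hfK : f ∉ K := by
    intro h
    have := congrFun (congrFun ((hπf.symm).trans ((hmemK f).1 h)) o) o
    simp at this
  have hdec : ∀ x ∈ A, ∃ r : k, x - r • f ∈ m := by
    intro x hx
    refine ⟨π x o o, sub_mem hx (A.smul_mem _ hfA), ?_⟩
    show x - π x o o • f ∈ K
    obtain ⟨hfx, hxf⟩ := hAfix x hx
    rw [hmemK, map_sub, map_smul, hπf]
    conv_lhs => enter [1]; rw [← hxf, ← hfx, map_mul, map_mul, hπf]
    simp [Matrix.single_mul_mul_single]
  have hA_m : A ≤ m ⊔ (k ∙ f) := fun x hx => by
    obtain ⟨r, hr⟩ := hdec x hx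
    exact Submodule.mem_sup.2 ⟨_, hr, r • f, Submodule.smul_mem _ _
      (Submodule.mem_span_singleton_self f), sub_add_cancel _ _⟩
  have hdimA : finrank k A ≤ finrank k m + 1 := by
    refine (Submodule.finrank_mono hA_m).trans ((Submodule.finrank_add_le_finrank_add_finrank _ _).trans ?_)
    exact Nat.add_le_add_left ((finrank_span_le_card {f}).trans (by simp)) _
  have hdimA' : finrank k m < finrank k A := Submodule.finrank_lt_finrank_of_lt
    (lt_of_le_of_ne inf_le_left fun h => hfK (h.symm ▸ hfA : f ∈ m).2)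
  set P : Submodule k B := Submodule.span k {z | ∃ x ∈ m, ∃ y ∈ m, z = x * y} with hP
  have hCAP : CA ≤ P := by
    refine Submodule.span_le.2 ?_
    rintro _ ⟨x, hx, y, hy, rfl⟩
    obtain ⟨r, hr⟩ := hdec x hx
    obtain ⟨s, hs⟩ := hdec y hy
    have h : x * y - y * x = (x - r • f) * (y - s • f) - (y - s • f) * (x - r • f) := by
      obtain ⟨hfx, hxf⟩ := hAfix x hx
      obtain ⟨hfy, hyf⟩ := hAfix y hy
      simp only [sub_mul, mul_sub, smul_mul_assoc, mul_smul_comm, smul_sub, hfx, hxf, hfy, hyf, hff]
      rw [smul_comm r s f]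
      abel
    rw [SetLike.mem_coe, h]
    exact sub_mem (Submodule.subset_span ⟨_, hr, _, hs, rfl⟩)
      (Submodule.subset_span ⟨_, hs, _, hr, rfl⟩)
  have hPm : P ≤ m := by
    refine Submodule.span_le.2 ?_
    rintro _ ⟨x, hx, y, hy, rfl⟩
    refine ⟨?_, K.mul_mem_left _ hy.2⟩
    have := hAmem (x * y)
    rwa [mul_assoc, mul_assoc, (hAfix y hy.1).2, ← mul_assoc, (hAfix x hx.1).1] at this
  have hCAdim : finrank k m ≤ finrank k CA + 1 := by
    have h1 : finrank k (LinearMap.ker q) ≤ finrank k CA := by
      rw [(Submodule.equivMapOfInjective A.subtype A.subtype_injective _).finrank_eq]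
      exact Submodule.finrank_mono hkerq
    omega
  obtain ⟨t, htm, hmt⟩ : ∃ t ∈ m, m ≤ CA ⊔ (k ∙ t) := by
    by_cases h : m ≤ CA
    · exact ⟨0, zero_mem _, h.trans le_sup_left⟩
    · obtain ⟨t, ht, htC⟩ := SetLike.not_le_iff_exists.1 h
      refine ⟨t, ht, le_of_eq (Submodule.eq_of_le_of_finrank_le ?_ ?_).symm⟩
      · exact sup_le (hCAP.trans hPm) (Submodule.span_le.2 (by simpa using ht))
      · have : CA < CA ⊔ (k ∙ t) := lt_of_le_of_ne le_sup_left fun he =>
          htC (he.symm ▸ (le_sup_right : (k ∙ t) ≤ _) (Submodule.mem_span_singleton_self t))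
        have := Submodule.finrank_lt_finrank_of_lt this
        omega
  set S : Submodule k B := Submodule.span k (Set.range fun i : ℕ => t ^ (i + 1)) with hS
  have htS : t ∈ S := Submodule.subset_span ⟨0, pow_one t⟩
  have hSK : S ≤ K.restrictScalars k := Submodule.span_le.2 fun _ ⟨i, hi⟩ => by
    rw [← hi]
    show t ^ (i + 1) ∈ K
    rw [pow_succ]
    exact K.mul_mem_left _ htm.2
  have hSmul : ∀ x ∈ S, ∀ y ∈ S, x * y ∈ S ∧ x * y = y * x := by
    intro x hx y hy
    induction hx using Submodule.span_induction with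
    | mem x hx =>
      obtain ⟨i, rfl⟩ := hx
      induction hy using Submodule.span_induction with
      | mem y hy =>
        obtain ⟨j, rfl⟩ := hy
        simp only [← pow_add, add_comm]
        refine ⟨Submodule.subset_span ⟨i + j + 1, ?_⟩, trivial⟩
        show t ^ (i + j + 1 + 1) = _
        congr 1; omega
      | zero => simp
      | add y z _ _ h1 h2 =>
        rw [mul_add, add_mul]
        exact ⟨add_mem h1.1 h2.1, by rw [h1.2, h2.2]⟩
      | smul r y _ h1 =>
        rw [mul_smul_comm, smul_mul_assoc]
        exact ⟨Submodule.smul_mem _ r h1.1, by rw [h1.2]⟩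
    | zero => simp
    | add y z _ _ h1 h2 =>
      rw [mul_add, add_mul]
      exact ⟨add_mem h1.1 h2.1, by rw [h1.2, h2.2]⟩
    | smul r y _ h1 =>
      rw [mul_smul_comm, smul_mul_assoc]
      exact ⟨Submodule.smul_mem _ r h1.1, by rw [h1.2]⟩
  have hmS : ∀ r : ℕ, m ≤ S ⊔ (K ^ (r + 1)).restrictScalars k := by
    intro r
    induction r with
    | zero => intro x hx; exact Submodule.mem_sup_right (by simpa [Submodule.pow_one] using hx.2)
    | succ r ih =>
      refine hmt.trans (sup_le (hCAP.trans (Submodule.span_le.2 ?_))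
        (Submodule.span_le.2 (by simpa using Submodule.mem_sup_left htS)))
      rintro _ ⟨x, hx, y, hy, rfl⟩
      obtain ⟨s, hs, j, hj, rfl⟩ := Submodule.mem_sup.1 (ih hx)
      obtain ⟨s', hs', j', hj', rfl⟩ := Submodule.mem_sup.1 (ih hy)
      have hj'K : j' ∈ K := by
        have := sub_mem (hy.2 : s' + j' ∈ K) (hSK hs' : s' ∈ K)
        rwa [add_sub_cancel_left] at this
      refine Submodule.mem_sup.2 ⟨s * s', (hSmul s hs s' hs').1, s * j' + j * s' + j * j', ?_, ?_⟩
      · exact add_mem (add_mem (hsucc' (r + 1) hj' (hSK hs)) (hsucc (r + 1) hj (hSK hs')))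
          (hsucc (r + 1) hj hj'K)
      · simp only [add_mul, mul_add]; abel
  have hmS' : m ≤ S := fun x hx => by
    obtain ⟨s, hs, j, hj, rfl⟩ := Submodule.mem_sup.1 (hmS N hx)
    have : j ∈ K ^ (N + 1) := hj
    rw [Submodule.pow_succ, hN, Submodule.bot_mul] at this
    rw [(Submodule.mem_bot _).1 this, add_zero]
    exact hs
  have hCA0 : CA = ⊥ := by
    rw [eq_bot_iff]
    refine Submodule.span_le.2 ?_
    rintro _ ⟨x, hx, y, hy, rfl⟩
    obtain ⟨r, hr⟩ := hdec x hx
    obtain ⟨s, hs⟩ := hdec y hy
    obtain ⟨hfx, hxf⟩ := hAfix x hx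
    obtain ⟨hfy, hyf⟩ := hAfix y hy
    have h := (hSmul _ (hmS' hr) _ (hmS' hs)).2
    simp only [sub_mul, mul_sub, smul_mul_assoc, mul_smul_comm, smul_sub, hfx, hxf, hfy, hyf, hff] at h
    rw [smul_comm r s f] at h
    rw [SetLike.mem_coe, Submodule.mem_bot, sub_eq_zero]
    linear_combination (norm := abel) h
  rw [hCA0] at hCAdim hkerq
  have hk0 : finrank k (LinearMap.ker q) = 0 := by
    rw [(Submodule.equivMapOfInjective A.subtype A.subtype_injective _).finrank_eq,
      le_bot_iff.1 hkerq, finrank_bot]
  rw [hdim]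
  have : finrank k A = 2 := by omega
  rw [this, mul_comm]

end Matrix

/-- An indecomposable symmetric algebra over an algebraically closed field with exactly two
independent trace functions has dimension twice a square. -/
theorem exists_finrank_eq_two_mul_sq [IsAlgClosed k] [FiniteDimensional k B]
    (h2 : finrank k (B ⧸ commSpan k B) = 2) (ε : B →ₗ[k] k)
    (hε : ∀ x y, ε (x * y) = ε (y * x)) (hnd : ∀ x, (∀ y, ε (x * y) = 0) → x = 0)
    (hprim : ∀ c : B, (∀ x, c * x = x * c) → c * c = c → c = 0 ∨ c = 1) :
    ∃ n : ℕ, finrank k B = 2 * n ^ 2 := by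
  classical
  haveI := IsArtinianRing.of_finite k B
  obtain ⟨m, d, hd, ⟨e⟩⟩ :=
    IsSemisimpleRing.exists_algEquiv_pi_matrix_of_isAlgClosed k (B ⧸ Ring.jacobson B)
  set π := e.toAlgHom.comp (Ideal.Quotient.mkₐ k (Ring.jacobson B)) with hπdef
  have hπ : Function.Surjective π := e.surjective.comp (Ideal.Quotient.mkₐ_surjective k _)
  have hker : RingHom.ker π = Ring.jacobson B := by
    ext x
    rw [RingHom.mem_ker]
    show e (Ideal.Quotient.mk _ x) = 0 ↔ _
    rw [map_eq_zero_iff e e.injective, Ideal.Quotient.eq_zero_iff_mem]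
  have hnil : IsNilpotent (RingHom.ker π) := hker ▸ IsSemiprimaryRing.isNilpotent
  let T : B →ₗ[k] (Fin m → k) := LinearMap.pi fun i =>
    ((Matrix.traceLinearMap (Fin (d i)) k k).comp (LinearMap.proj i)).comp π.toLinearMap
  have hT : ∀ x i, T x i = (π x i).trace := fun x i => rfl
  have hTsurj : Function.Surjective T := by
    intro v
    obtain ⟨x, hx⟩ := hπ fun i => Matrix.single ⟨0, Nat.pos_of_ne_zero (hd i).out⟩
      ⟨0, Nat.pos_of_ne_zero (hd i).out⟩ (v i)
    exact ⟨x, funext fun i => by rw [hT, hx, Matrix.trace_single_eq_same]⟩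
  have hC : commSpan k B ≤ LinearMap.ker T := commSpan_le_ker T fun x y => funext fun i => by
    rw [hT, hT, map_mul, map_mul, Pi.mul_apply, Pi.mul_apply, Matrix.trace_mul_comm]
  have hrn := LinearMap.finrank_range_add_finrank_ker T
  rw [LinearMap.range_eq_top.2 hTsurj, finrank_top, Module.finrank_fintype_fun_eq_card,
    Fintype.card_fin] at hrn
  have hCq := (commSpan k B).finrank_quotient_add_finrank
  have hCle := Submodule.finrank_mono hC
  have hm2 : m ≤ 2 := by omega
  interval_cases m
  · exfalso
    have h1 : (1 : B) ∈ RingHom.ker π := RingHom.mem_ker.2 (funext fun i => i.elim0)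
    obtain ⟨N, hN⟩ := hnil
    have h3 := Ideal.pow_mem_pow h1 N
    rw [hN, one_pow, Submodule.zero_eq_bot, Submodule.mem_bot] at h3
    haveI : Subsingleton B := subsingleton_of_zero_eq_one h3.symm
    rw [finrank_zero_of_subsingleton] at h2
    exact absurd h2 (by norm_num)
  · let ev : (Π i, Matrix (Fin (d i)) (Fin (d i)) k) →ₐ[k] Matrix (Fin (d 0)) (Fin (d 0)) k :=
      Pi.evalAlgHom k _ 0
    refine ⟨d 0, finrank_eq_two_mul_sq_of_matrix (ev.comp π) (Nat.pos_of_ne_zero (hd 0).out) ?_ ?_ h2⟩
    · intro y
      obtain ⟨x, hx⟩ := hπ (Pi.single 0 y)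
      exact ⟨x, by simp [ev, hx]⟩
    · have hkk : RingHom.ker (ev.comp π) = RingHom.ker π := by
        ext x
        simp only [RingHom.mem_ker, ev, AlgHom.comp_apply, Pi.evalAlgHom_apply]
        refine ⟨fun h => funext fun i => ?_, fun h => by rw [h]; rfl⟩
        obtain rfl := Subsingleton.elim i 0
        exact h
      rw [hkk]; exact hnil
  · exfalso
    have hCeq : commSpan k B = LinearMap.ker T :=
      Submodule.eq_of_le_of_finrank_le hC (by omega)
    have hJ : ∀ x, π x = 0 → x = 0 := fun x hx => hnd x fun y => by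
      have : x * y ∈ commSpan k B := by
        rw [hCeq, LinearMap.mem_ker]
        funext i
        rw [hT, map_mul, hx, zero_mul]
        simp
      exact commSpan_le_ker ε hε this
    have hinj : Function.Injective π := (injective_iff_map_eq_zero π).2 hJ
    obtain ⟨c, hc⟩ := hπ (Pi.single 0 1)
    have hcc : ∀ x, c * x = x * c := fun x => hinj <| by
      rw [map_mul, map_mul, hc]
      funext i
      by_cases h : i = 0
      · subst h; simp
      · simp [h]
    have hid : c * c = c := hinj <| by
      rw [map_mul, hc]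
      funext i
      by_cases h : i = 0
      · subst h; simp
      · simp [h]
    haveI := hd 0
    haveI := hd 1
    rcases hprim c hcc hid with h | h <;> rw [h] at hc
    · have := congrFun hc 0
      simp at this
    · have := congrFun hc 1
      simp at this

end CfsgLib.BrauerCharacters
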